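import Cfsg.Agent.Lib.TwoNilCent.Setup
import Cfsg.Agent.Lib.BlockCount.Inverted
import Cfsg.Agent.Lib.BlockCount.Involve
import Cfsg.Agent.Lib.Blocks.ThirdMain
import Cfsg.Agent.Lib.Blocks.SecondMain
import Cfsg.Agent.Lib.Blocks.PPrimeNormal
import Cfsg.Agent.Lib.Char.RationalBound
import Cfsg.Agent.Lib.Char.KernelSum
import Cfsg.Agent.Lib.Transfer.Fusion

/-!
# The principal block at the 2-elements of `N`

For a nontrivial 2-element `x` of `N` the principal block characters are constant on `x C_W(x)` and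
the others sum to zero over it, so the class sum of an involution bounds
`|G| ∑ χ(u)² χ(x) / χ(1)` over the block by `|P|² |W|` times the number of involutions inverting `x`
in a Sylow 2-subgroup.
-/

set_option autoImplicit false
set_option linter.style.haveILetI false
set_option linter.unusedSectionVars false

open Subgroup Cfsg
open Cfsg.Agent.Involution
open scoped ComplexConjugate Classical

namespace Cfsg.Agent.TwoNilCent

universe u

variable {G : Type u} [Group G] [Fintype G]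

theorem card_conj_eq (a b : G) : Nat.card {g : G // g * a * g⁻¹ = b} =
    if IsConj a b then Nat.card (centralizer ({b} : Set G)) else 0 := by
  split_ifs with h
  · obtain ⟨g₀, hg₀⟩ := isConj_iff.1 h
    refine Nat.card_congr
      ⟨fun g => ⟨g.1 * g₀⁻¹, mem_centralizer_singleton_iff.2 ?_⟩,
        fun c => ⟨c.1 * g₀, ?_⟩, fun g => Subtype.ext (by simp), fun c => Subtype.ext (by simp)⟩
    · have h1 : g₀⁻¹ * b * g₀ = a := by rw [← hg₀]; group
      calc g.1 * g₀⁻¹ * b = g.1 * (g₀⁻¹ * b * g₀) * g₀⁻¹ := by group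
        _ = g.1 * a * g.1⁻¹ * (g.1 * g₀⁻¹) := by rw [h1]; group
        _ = b * (g.1 * g₀⁻¹) := by rw [g.2]
    · have h1 := mem_centralizer_singleton_iff.1 c.2
      calc c.1 * g₀ * a * (c.1 * g₀)⁻¹ = c.1 * (g₀ * a * g₀⁻¹) * (c.1)⁻¹ := by group
        _ = b := by rw [hg₀, h1, mul_inv_cancel_right]
  · rw [Nat.card_eq_zero]
    exact Or.inl ⟨fun g => h (isConj_iff.2 ⟨g.1, g.2⟩)⟩

namespace Data

variable {N W : Subgroup G} (D : Data N W) {M : Ideal AlgInt} [Fact (Nat.Prime 2)] [M.IsMaximal]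
include D

/-- Principal block characters are constant on `x C_W(x)`. -/
theorem apply_mul (hM : IsPModular 2 M) {x : G} {m : ℕ} (hx : x ∈ N) (hxm : orderOf x = 2 ^ (m + 1))
    {χ : IrrCharacter G} (hχ : χ ∈ principalBlock M G) {y : G} (hy : y ∈ O W x) :
    χ.1 (x * y) = χ.1 x :=
  Blocks.principal_apply_mul_core hM.2.2 ⟨m + 1, hxm⟩ (by rwa [D.core_eq hx hxm]) hχ

theorem sum_sq (hM : IsPModular 2 M) {x : G} {m : ℕ} (hx : x ∈ N) (hxm : orderOf x = 2 ^ (m + 1)) :
    ∑ χ ∈ Finset.univ.filter (· ∈ principalBlock M G), χ.1 x * conj (χ.1 x) =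
      ((O W x).relIndex (centralizer {x}) : ℂ) := by
  haveI := Fintype.ofFinite (centralizer ({x} : Set G))
  have hx' : ∃ k, orderOf x = 2 ^ k := ⟨m + 1, hxm⟩
  have h1 : IsPRegular 2 (1 : centralizer ({x} : Set G)) := by simp [IsPRegular]
  have := Blocks.second_main_orth hM.2.2 hx' (Blocks.isPBlock_principalBlock hM.2.2 (G := G)) h1 h1
  simp only [OneMemClass.coe_one, mul_one] at this
  rw [this, Blocks.inducingSet_principalBlock hM.2.2 hx']
  obtain ⟨he, j, hj⟩ := D.pPrimeCore_cent hx hxm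
  rw [Finset.sum_congr (s₂ := Finset.univ.filter
      fun η : IrrCharacter (centralizer ({x} : Set G)) =>
        Char.TrivOn (pPrimeCore 2 (centralizer ({x} : Set G))) η.1)
      (Finset.filter_congr fun η _ => by
      rw [Blocks.principalBlock_eq_of_index hM.2.2 ⟨j, he ▸ hj⟩]; rfl) fun η _ =>
      show η.1 1 * conj (η.1 1) = ((charDegree η.1 ^ 2 : ℕ) : ℂ) by
        rw [← Char.charDegree_cast, map_natCast]; push_cast; ring,
    ← Nat.cast_sum, Char.sum_trivOn_degree_sq, he]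
  rfl

/-- Outside the principal block the sum over `x C_W(x)` vanishes. -/
theorem sum_eq_zero (hM : IsPModular 2 M) {x : G} {m : ℕ} (hx : x ∈ N)
    (hxm : orderOf x = 2 ^ (m + 1)) {χ : IrrCharacter G} (hχ : χ ∉ principalBlock M G) :
    ∑ y : O W x, χ.1 (x * y) = 0 := by
  set A : IrrCharacter G → ℂ := fun ψ => ∑ y : O W x, ψ.1 (x * y)
  set B := Finset.univ.filter (fun ψ : IrrCharacter G => ψ ∈ principalBlock M G)
  obtain ⟨e, he1, he2⟩ : ∃ e : ℕ, e ≡ 1 [MOD orderOf x] ∧ e ≡ 0 [MOD Nat.card (O W x)] := by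
    have hco : (orderOf x).Coprime (Nat.card (O W x)) := by
      rw [hxm]; exact ((Nat.coprime_two_left).2 (D.odd_O x)).pow_left _
    exact ⟨_, (Nat.chineseRemainder hco 1 0).2⟩
  have hpow : ∀ v : O W x, (x * (v : G)) ^ e = x := fun v => by
    rw [(mem_O.1 v.2).2.symm.mul_pow]
    have h1 : x ^ e = x := by
      conv_rhs => rw [← pow_one x]
      exact pow_eq_pow_iff_modEq.2 he1
    have h2 : (v : G) ^ e = 1 := by
      obtain ⟨c, hc⟩ := Nat.modEq_zero_iff_dvd.1 he2
      rw [hc, pow_mul, ← coe_pow, pow_card_eq_one', OneMemClass.coe_one, one_pow]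
    rw [h1, h2, mul_one]
  have hall : ∑ ψ : IrrCharacter G, A ψ * conj (A ψ) =
      (Nat.card (centralizer ({x} : Set G)) : ℂ) * Nat.card (O W x) := by
    simp only [A, map_sum, Finset.sum_mul, Finset.mul_sum]
    rw [Finset.sum_comm]
    have h1 : ∀ y : O W x, ∑ ψ : IrrCharacter G, ∑ y' : O W x,
        ψ.1 (x * y') * conj (ψ.1 (x * y)) = (Nat.card (centralizer ({x} : Set G)) : ℂ) := fun y => by
      rw [Finset.sum_comm]
      rw [Finset.sum_congr rfl (g := fun y' : O W x =>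
        (Nat.card {g : G // g * (x * y') * g⁻¹ = x * y} : ℂ)) fun y' _ => by
          rw [Char.sum_irr_mul_conj, card_conj_eq]; split_ifs <;> simp,
        ← Nat.cast_sum, ← Nat.card_sigma]
      congr 1
      refine Nat.card_congr (Equiv.ofBijective
        (fun p => ⟨p.2.1, ?_⟩) ⟨?_, ?_⟩)
      · obtain ⟨y', g, hg⟩ := p
        dsimp only
        have := congrArg (· ^ e) hg
        simp only [conj_pow, hpow] at this
        exact mem_centralizer_singleton_iff.2 (mul_inv_eq_iff_eq_mul.1 this)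
      · rintro ⟨y₁, g₁, h₁⟩ ⟨y₂, g₂, h₂⟩ h
        obtain rfl : g₁ = g₂ := congrArg Subtype.val h
        obtain rfl : y₁ = y₂ := Subtype.ext (mul_left_cancel (mul_left_cancel (mul_right_cancel
          (h₁.trans h₂.symm))))
        rfl
      · rintro ⟨g, hg⟩
        have hgN : g ∈ N := D.cent_le hx hxm hg
        have hgx : Commute g x := mem_centralizer_singleton_iff.1 hg
        refine ⟨⟨⟨g⁻¹ * y * g, ?_⟩, g, ?_⟩, rfl⟩
        · simpa using D.conj_mem_O (inv_mem hgN) hgx.inv_left y.2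
        · show g * (x * (g⁻¹ * y * g)) * g⁻¹ = x * y
          rw [← mul_assoc g x, hgx.eq]
          group
    rw [Finset.sum_congr rfl fun y _ => h1 y, Finset.sum_const, Finset.card_univ, nsmul_eq_mul,
      ← Nat.card_eq_fintype_card, mul_comm]
  have hB : ∑ ψ ∈ B, A ψ * conj (A ψ) =
      (Nat.card (centralizer ({x} : Set G)) : ℂ) * Nat.card (O W x) := by
    have hA : ∀ ψ ∈ B, A ψ = (Nat.card (O W x) : ℂ) * ψ.1 x := fun ψ hψ => by
      simp only [A]
      rw [Finset.sum_congr rfl fun y _ =>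
        D.apply_mul hM hx hxm (Finset.mem_filter.1 hψ).2 y.2, Finset.sum_const, Finset.card_univ,
        nsmul_eq_mul, ← Nat.card_eq_fintype_card]
    obtain ⟨j, hj1, hj2⟩ := D.card_cent hx hxm
    rw [Finset.sum_congr rfl (g := fun ψ => (Nat.card (O W x) : ℂ) * Nat.card (O W x) *
        (ψ.1 x * conj (ψ.1 x))) fun ψ hψ => by rw [hA ψ hψ, map_mul, map_natCast]; ring,
      ← Finset.mul_sum, D.sum_sq hM hx hxm, hj1, hj2]
    push_cast
    ring
  have hrest : ∑ ψ ∈ Finset.univ \ B, Complex.normSq (A ψ) = 0 := by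
    have e : ∑ ψ ∈ Finset.univ \ B, A ψ * conj (A ψ) = 0 := by
      have := Finset.sum_sdiff (f := fun ψ => A ψ * conj (A ψ)) (Finset.subset_univ B)
      rw [hall, hB] at this
      linear_combination this
    refine Complex.ofReal_injective ?_
    rw [Complex.ofReal_sum, Complex.ofReal_zero, ← e]
    exact Finset.sum_congr rfl fun ψ _ => (Complex.mul_conj _).symm
  exact Complex.normSq_eq_zero.1 ((Finset.sum_eq_zero_iff_of_nonneg
    fun ψ _ => Complex.normSq_nonneg (A ψ)).1 hrest χ (by simp [B, hχ]))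

theorem exists_int {u : G} (hu2 : orderOf u = 2) (χ : IrrCharacter G) :
    ∃ z : ℤ, χ.1 u = z :=
  Char.exists_int_of_forall_pow (Char.irr_isCharacter χ) u fun k hk => by
    rw [hu2, Nat.coprime_two_right] at hk
    obtain ⟨j, rfl⟩ := hk
    rw [pow_succ, pow_mul, pow_two, StrongEmb.mul_self_of_orderOf hu2, one_pow, one_mul]

/-- The elements of `x C_W(x)` that are products of two conjugates of `u`, counted. -/
theorem card_pairs_le {u x : G} {m : ℕ} (hu : u ∈ N) (hu2 : orderOf u = 2) (hx : x ∈ N)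
    (hxm : orderOf x = 2 ^ (m + 1)) :
    ∃ R : Subgroup G, IsPGroup 2 R ∧ x ∈ R ∧
      Nat.card (O W u) * Nat.card (O W u) *
          Nat.card {p : G × G // IsConj u p.1 ∧ IsConj u p.2 ∧ x⁻¹ * (p.1 * p.2) ∈ O W x} ≤
        Nat.card W * Nat.card (O W x) *
          Nat.card {a : G // a ∈ R ∧ orderOf a = 2 ∧ a * x * a⁻¹ = x⁻¹ ∧ a ≠ x} := by
  set z := x ^ 2 ^ m with hzdef
  have hz2 : orderOf z = 2 := exists_involution_pow hxm
  have hzN : z ∈ N := pow_mem hx _
  set K := O W x with hK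
  set R₀ : Subgroup G := normalizer (zpowers x : Set G) ⊓ centralizer {z} with hR₀
  have hR₀N : R₀ ≤ N := fun g hg => D.mem_of_commute hzN hz2 (mem_centralizer_singleton_iff.1 hg.2)
  set Ext : Subgroup G :=
    { carrier := {g | g ∈ R₀ ∧ (g * x * g⁻¹ = x ∨ g * x * g⁻¹ = x⁻¹)}
      one_mem' := ⟨one_mem _, Or.inl (by group)⟩
      mul_mem' := fun {g h} hg hh => ⟨mul_mem hg.1 hh.1, by
        rw [show g * h * x * (g * h)⁻¹ = g * (h * x * h⁻¹) * g⁻¹ by group]
        rcases hh.2 with e | e <;> rw [e]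
        · exact hg.2
        · rw [show g * x⁻¹ * g⁻¹ = (g * x * g⁻¹)⁻¹ by group]
          rcases hg.2 with e' | e' <;> rw [e']
          · exact Or.inr rfl
          · exact Or.inl (inv_inv x)⟩
      inv_mem' := fun {g} hg => ⟨inv_mem hg.1, by
        rcases hg.2 with e | e
        · exact Or.inl (by nth_rewrite 1 [← e]; group)
        · refine Or.inr ?_
          have e' : g * x⁻¹ * g⁻¹ = x := by
            rw [show g * x⁻¹ * g⁻¹ = (g * x * g⁻¹)⁻¹ by group, e, inv_inv]
          nth_rewrite 1 [← e']; group⟩ }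
  have hxE : x ∈ Ext := ⟨⟨le_normalizer (mem_zpowers x),
    mem_centralizer_singleton_iff.2 ((Commute.refl x).pow_right _).eq⟩, Or.inl (by group)⟩
  have hExtN : Ext ≤ N := fun g hg => hR₀N hg.1
  have hKE : K ≤ Ext := fun g hg => by
    have hgx : Commute g x := (mem_O.1 hg).2
    refine ⟨⟨?_, mem_centralizer_singleton_iff.2 (hgx.pow_right _).eq⟩,
      Or.inl (mul_inv_eq_iff_eq_mul.2 hgx.eq)⟩
    exact centralizer_le_normalizer _ (mem_centralizer_iff.2 fun y hy => by
      obtain ⟨i, rfl⟩ := mem_zpowers_iff.1 hy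
      exact (hgx.zpow_right i).eq.symm)
  have hKconj : ∀ g ∈ Ext, ∀ y ∈ K, g * y * g⁻¹ ∈ K := fun g hg y hy => by
    rw [hK, mem_O] at hy ⊢
    refine ⟨D.conj_mem_W (hExtN hg) hy.1, ?_⟩
    have h := (Commute.conj_iff g).2 hy.2
    rcases hg.2 with e | e <;> rw [e] at h
    · exact h
    · exact Commute.inv_right_iff.1 h
  -- a Sylow subgroup of `Ext`
  obtain ⟨R', hR'⟩ : ∃ R' : Sylow 2 Ext, (⟨x, hxE⟩ : Ext) ∈ (R' : Subgroup Ext) := by
    obtain ⟨R', hR'⟩ := (IsPGroup.of_card (p := 2) (n := m + 1) (G := zpowers (⟨x, hxE⟩ : Ext)) (by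
      rw [Nat.card_zpowers, Subgroup.orderOf_mk, hxm])).exists_le_sylow
    exact ⟨R', hR' (mem_zpowers _)⟩
  set R : Subgroup G := (R' : Subgroup Ext).map Ext.subtype with hRdef
  have hRE : R ≤ Ext := map_subtype_le _
  have hRp : IsPGroup 2 R := R'.2.map _
  refine ⟨R, hRp, ⟨_, hR', rfl⟩, ?_⟩
  -- `Ext = K R`
  have hgen : ∀ g ∈ Ext, ∃ k ∈ K, ∃ r ∈ R, g = k * r := by
    intro g hg
    haveI hn : (K.subgroupOf Ext).Normal := ⟨fun y hy h => hKconj h h.2 y hy⟩
    have hp : IsPGroup 2 (Ext ⧸ K.subgroupOf Ext) := by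
      intro q
      obtain ⟨y, rfl⟩ := QuotientGroup.mk_surjective q
      obtain ⟨a, b, hb, hab⟩ : ∃ a b, ¬ 2 ∣ b ∧ orderOf y = 2 ^ a * b :=
        Nat.exists_eq_pow_mul_and_not_dvd (orderOf_pos y).ne' 2 (by norm_num)
      refine ⟨a, ?_⟩
      rw [← QuotientGroup.mk_pow, QuotientGroup.eq_one_iff, mem_subgroupOf]
      set v : Ext := y ^ 2 ^ a with hv
      have hvo : orderOf v = b := by
        rw [hv, orderOf_pow_of_dvd (pow_ne_zero _ two_ne_zero) (hab ▸ dvd_mul_right _ _), hab,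
          Nat.mul_div_cancel_left _ (by positivity)]
      have hodd : Odd b := Nat.odd_iff.2 (Nat.two_dvd_ne_zero.1 hb)
      have hvx : Commute (v : G) x := by
        rcases v.2.2 with e | e
        · exact mul_inv_eq_iff_eq_mul.1 e
        · obtain ⟨c, hc⟩ := hodd
          have h2 : Commute ((v : G) * v) x := by
            refine mul_inv_eq_iff_eq_mul.1 ?_
            calc (v : G) * v * x * ((v : G) * v)⁻¹ = v * (v * x * (v : G)⁻¹) * (v : G)⁻¹ := by group
              _ = ((v : G) * x * (v : G)⁻¹)⁻¹ := by nth_rewrite 1 [e]; group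
              _ = x := by rw [e, inv_inv]
          have h3 : (v : G) = (((v : G) * v) ^ c)⁻¹ := by
            refine eq_inv_of_mul_eq_one_left ?_
            rw [← pow_two, ← pow_mul, ← pow_succ', show 2 * c + 1 = orderOf v by omega,
              ← orderOf_coe, pow_orderOf_eq_one]
          rw [h3]
          exact (h2.pow_left c).inv_left
      exact mem_O.2 ⟨D.core' hx hxm hvx (by rwa [orderOf_coe, hvo]), hvx⟩
    set g' : Ext := ⟨g, hg⟩
    have htop : K.subgroupOf Ext ⊔ (R' : Subgroup Ext) = ⊤ := by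
      have h1 : (K.subgroupOf Ext ⊔ (R' : Subgroup Ext)).index ∣ (K.subgroupOf Ext).index :=
        index_dvd_of_le le_sup_left
      have h2 : (K.subgroupOf Ext ⊔ (R' : Subgroup Ext)).index ∣ (R' : Subgroup Ext).index :=
        index_dvd_of_le le_sup_right
      obtain ⟨j, hj⟩ := IsPGroup.iff_card.1 hp
      rw [index_eq_card (K.subgroupOf Ext), hj] at h1
      exact index_eq_one.1 (Nat.eq_one_of_dvd_coprimes
        (((Nat.Prime.coprime_iff_not_dvd Nat.prime_two).2 R'.not_dvd_index).pow_left j) h1 h2)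
    obtain ⟨k, hk, r, hr, he⟩ :=
      Subgroup.mem_sup_of_normal_left.1 (show g' ∈ K.subgroupOf Ext ⊔ (R' : Subgroup Ext) from
        htop ▸ mem_top g')
    exact ⟨(k : G), hk, (r : G), ⟨r, hr, rfl⟩, congrArg Subtype.val he.symm⟩
  set A := {a : G // a ∈ R ∧ orderOf a = 2 ∧ a * x * a⁻¹ = x⁻¹ ∧ a ≠ x} with hA
  set S := {p : G × G // IsConj u p.1 ∧ IsConj u p.2 ∧ x⁻¹ * (p.1 * p.2) ∈ K} with hS
  -- the first member is conjugate under `K` to some `a`
  have hfirst : ∀ p : S, ∃ a : A, ∃ d ∈ K, d * (a : G) * d⁻¹ = p.1.1 := by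
    rintro ⟨⟨v, w⟩, hv, hw, hy⟩
    dsimp only at hv hw hy ⊢
    set y := x⁻¹ * (v * w) with hydef
    have hxy : Commute y x := (mem_O.1 hy).2
    have hv2 : orderOf v = 2 := by
      obtain ⟨g, rfl⟩ := isConj_iff.1 hv; rw [StrongEmb.orderOf_conj', hu2]
    have hw2 : orderOf w = 2 := by
      obtain ⟨g, rfl⟩ := isConj_iff.1 hw; rw [StrongEmb.orderOf_conj', hu2]
    have hvv := StrongEmb.mul_self_of_orderOf hv2
    have hww := StrongEmb.mul_self_of_orderOf hw2
    have hvi := StrongEmb.inv_eq_of_orderOf hv2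
    have hvw : x * y = v * w := by rw [hydef, mul_inv_cancel_left]
    have hinv : v * (x * y) * v⁻¹ = (x * y)⁻¹ := by
      rw [hvw, mul_inv_rev, hvi, StrongEmb.inv_eq_of_orderOf hw2, ← mul_assoc, hvv, one_mul]
    -- `v` inverts `x`
    obtain ⟨e, he1, he2⟩ : ∃ e : ℕ, e ≡ 1 [MOD orderOf x] ∧ e ≡ 0 [MOD Nat.card K] := by
      have hco : (orderOf x).Coprime (Nat.card K) := by
        rw [hxm]; exact ((Nat.coprime_two_left).2 (D.odd_O x)).pow_left _
      exact ⟨_, (Nat.chineseRemainder hco 1 0).2⟩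
    have hpow : (x * y) ^ e = x := by
      rw [hxy.symm.mul_pow]
      have h1 : x ^ e = x := by
        conv_rhs => rw [← pow_one x]
        exact pow_eq_pow_iff_modEq.2 he1
      have h2 : y ^ e = 1 := by
        obtain ⟨c, hc⟩ := Nat.modEq_zero_iff_dvd.1 he2
        rw [hc, pow_mul, show y ^ Nat.card K = 1 from congrArg Subtype.val
          (pow_card_eq_one' (G := K) (x := ⟨y, hy⟩)), one_pow]
      rw [h1, h2, mul_one]
    have hvx : v * x * v⁻¹ = x⁻¹ := by
      have := congrArg (· ^ e) hinv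
      simpa only [conj_pow, hpow, inv_pow] using this
    have hvE : v ∈ Ext := by
      refine ⟨⟨Transfer.mem_normalizer_of_conj_mem fun t ht => ?_,
        mem_centralizer_singleton_iff.2 ?_⟩, Or.inr hvx⟩
      · obtain ⟨i, rfl⟩ := mem_zpowers_iff.1 ht
        rw [← conj_zpow, hvx, inv_zpow]
        exact inv_mem (zpow_mem (mem_zpowers x) i)
      · refine mul_inv_eq_iff_eq_mul.1 ?_
        rw [hzdef, ← conj_pow, hvx, inv_pow, StrongEmb.inv_eq_of_orderOf hz2]
    obtain ⟨c, hc, a, ha, rfl⟩ := hgen v hvE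
    have haE : a ∈ Ext := hRE ha
    have ha' : a⁻¹ * c * a ∈ K := by simpa using hKconj a⁻¹ (inv_mem haE) c hc
    have hne : a ≠ 1 := fun h => by
      rw [h, mul_one] at hv2
      exact absurd (hv2 ▸ (D.odd_O x).of_dvd_nat (K.orderOf_dvd_natCard hc)) (by decide)
    have haa : a * a = 1 := by
      refine D.eq_one_of_mem_P hRp ?_ (mul_mem ha ha)
      have h2 : c * (a * c * a⁻¹) * (a * a) = 1 := by rw [← hvv]; group
      have h3 : a * a = (c * (a * c * a⁻¹))⁻¹ := eq_inv_of_mul_eq_one_right h2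
      rw [h3]
      exact (inv_mem (mul_mem hc (hKconj a haE c hc)) : _ ∈ K).1
    have ha2 : orderOf a = 2 := orderOf_eq_prime (by rw [pow_two, haa]) hne
    have hax : a * x * a⁻¹ = x⁻¹ := by
      have hcx : Commute c x := (mem_O.1 hc).2
      have h := hvx
      rw [show c * a * x * (c * a)⁻¹ = c * (a * x * a⁻¹) * c⁻¹ by group,
        mul_inv_eq_iff_eq_mul, ← hcx.inv_right.eq] at h
      exact mul_left_cancel h
    obtain ⟨d, hd, hde⟩ := BlockCount.exists_conj_eq_of_coset (D.odd_O x) haa ha' (by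
      rw [show a * (a⁻¹ * c * a) = c * a by group]; exact hvv)
    rw [show a * (a⁻¹ * c * a) = c * a by group] at hde
    refine ⟨⟨a, ha, ha2, hax, fun hax' => ?_⟩, d, hd, hde⟩
    -- if `a = x` then `w` would have odd order
    subst hax'
    have hdx : Commute d a := (mem_O.1 hd).2
    rw [hdx.eq, mul_inv_cancel_right] at hde
    have hwy : w = y := by rw [hydef, ← hde]; simp
    rw [hwy] at hw2
    exact absurd (hw2 ▸ (D.odd_O a).of_dvd_nat (K.orderOf_dvd_natCard hy)) (by decide)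
  choose fa fd hfd hfe using hfirst
  -- cosets of the stabilisers
  have hfib : ∀ a : A, ∃ c : ℕ, 0 < c ∧
      Nat.card (O W u) * Nat.card (O W u) * Nat.card {p : S // fa p = a} * (c * c) ≤
        Nat.card W * Nat.card K * (c * c) := by
    intro a
    obtain ⟨haR, ha2, hax, hne⟩ := a.2
    have haN : (a : G) ∈ N := hExtN (hRE haR)
    have hkey := sq_mul_card_centralizer_le D.odd D.norm
      (fun t ht htN => D.card_O_eq hu hu2 htN ht) m x a hxm hx ha2 haN hax hne
    set Ka : Subgroup G := W ⊓ centralizer {x} ⊓ centralizer {(a : G)}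
    set c := Nat.card Ka
    refine ⟨c, Nat.card_pos, ?_⟩
    let orb := Set.range (fun d : K => (d : G) * (a : G) * (d : G)⁻¹)
    have horb : Nat.card orb * c = Nat.card K := by
      have hKa : Ka ≤ K := inf_le_left
      rw [show c = Nat.card (Ka.subgroupOf K) from
          (Nat.card_congr (subgroupOfEquivOfLe hKa).toEquiv).symm, mul_comm,
        ← card_mul_index (Ka.subgroupOf K), index_eq_card]
      congr 1
      refine Nat.card_congr (Equiv.ofBijective (fun q => Quotient.liftOn' q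
        (fun d : K => (⟨_, d, rfl⟩ : orb)) fun d d' h => ?_) ⟨?_, ?_⟩).symm
      · rw [QuotientGroup.leftRel_apply] at h
        have h1 : Commute ((d : G)⁻¹ * d') a := mem_centralizer_singleton_iff.1 h.2
        refine Subtype.ext ?_
        show (d : G) * a * (d : G)⁻¹ = d' * a * (d' : G)⁻¹
        calc (d : G) * a * (d : G)⁻¹
            = d * (((d : G)⁻¹ * d') * a * ((d : G)⁻¹ * d')⁻¹) * (d : G)⁻¹ := by
              rw [h1.eq, mul_inv_cancel_right]
          _ = _ := by group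
      · intro q r h
        induction q using Quotient.inductionOn' with
        | _ d => induction r using Quotient.inductionOn' with
          | _ d' =>
            refine Quotient.sound' (QuotientGroup.leftRel_apply.2 ?_)
            have h1 : (d : G) * a * (d : G)⁻¹ = d' * a * (d' : G)⁻¹ := congrArg Subtype.val h
            refine ⟨(d⁻¹ * d').2, mem_centralizer_singleton_iff.2 (mul_inv_eq_iff_eq_mul.1 ?_)⟩
            calc (d : G)⁻¹ * d' * a * ((d : G)⁻¹ * d')⁻¹
                = (d : G)⁻¹ * (d' * a * (d' : G)⁻¹) * d := by group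
              _ = a := by rw [← h1]; group
      · rintro ⟨_, d, rfl⟩
        exact ⟨Quotient.mk'' d, rfl⟩
    have hle : Nat.card {p : S // fa p = a} ≤ Nat.card orb * Nat.card orb := by
      rw [← Nat.card_prod]
      have hw : ∀ p : {p : S // fa p = a}, ∃ d : K,
          (d : G) * a * (d : G)⁻¹ = p.1.1.1 * (x⁻¹ * (p.1.1.1 * p.1.1.2)) := by
        rintro ⟨p, hp⟩
        obtain ⟨⟨v, w⟩, hv, hw, hy⟩ := p
        have he := hfe ⟨(v, w), hv, hw, hy⟩
        rw [hp] at he
        dsimp only at he ⊢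
        set y := x⁻¹ * (v * w)
        have hd := hfd ⟨(v, w), hv, hw, hy⟩
        set d₀ := fd ⟨(v, w), hv, hw, hy⟩
        have hd0x : Commute d₀ x := (mem_O.1 hd).2
        have hyx : Commute y x := (mem_O.1 hy).2
        have haa := StrongEmb.mul_self_of_orderOf ha2
        have hvv : v * v = 1 := by
          rw [← he, show d₀ * a * d₀⁻¹ * (d₀ * a * d₀⁻¹) = d₀ * ((a : G) * a) * d₀⁻¹ by group, haa]
          group
        have hvi : v⁻¹ = v := inv_eq_of_mul_eq_one_right hvv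
        have hvx : v * x = x⁻¹ * v := by
          refine mul_inv_eq_iff_eq_mul.1 ?_
          rw [← he]
          calc d₀ * a * d₀⁻¹ * x * (d₀ * a * d₀⁻¹)⁻¹
              = d₀ * (a * (d₀⁻¹ * x * d₀) * (a : G)⁻¹) * d₀⁻¹ := by group
            _ = x⁻¹ := by
              rw [show d₀⁻¹ * x * d₀ = x by rw [mul_assoc, ← hd0x.eq, inv_mul_cancel_left], hax,
                hd0x.inv_right.eq, mul_inv_cancel_right]
        have hw' : w = v * (x * y) := by
          rw [show x * y = v * w from mul_inv_cancel_left x _, ← mul_assoc, hvv, one_mul]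
        have hww : w * w = 1 := by
          obtain ⟨g, rfl⟩ := isConj_iff.1 hw
          rw [show g * u * g⁻¹ * (g * u * g⁻¹) = g * (u * u) * g⁻¹ by group,
            StrongEmb.mul_self_of_orderOf hu2]
          group
        have hvy : v * y * (v * y) = 1 := by
          have h1 : v * (x * y) * (v * (x * y)) = 1 := hw' ▸ hww
          calc v * y * (v * y) = v * (y * x) * (x⁻¹ * v) * y := by group
            _ = v * (x * y) * (v * x) * y := by rw [hyx.eq, hvx]
            _ = v * (x * y) * (v * (x * y)) := by group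
            _ = 1 := h1
        have hdy : d₀⁻¹ * y * d₀ ∈ K := by
          simpa using mul_mem (mul_mem (inv_mem hd) hy) hd
        obtain ⟨d₁, hd₁, hd₁e⟩ := BlockCount.exists_conj_eq_of_coset (D.odd_O x)
          (u := (a : G)) haa hdy (by
            calc (a : G) * (d₀⁻¹ * y * d₀) * (a * (d₀⁻¹ * y * d₀))
                = d₀⁻¹ * (d₀ * a * d₀⁻¹ * y * (d₀ * a * d₀⁻¹ * y)) * d₀ := by group
              _ = 1 := by rw [he, hvy]; group)
        refine ⟨⟨d₀ * d₁, mul_mem hd hd₁⟩, ?_⟩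
        show d₀ * d₁ * a * (d₀ * d₁)⁻¹ = v * y
        rw [show d₀ * d₁ * a * (d₀ * d₁)⁻¹ = d₀ * (d₁ * a * d₁⁻¹) * d₀⁻¹ by group, hd₁e, ← he]
        group
      refine Nat.card_le_card_of_injective (fun p =>
        ((⟨p.1.1.1, ⟨fd p.1, hfd p.1⟩, by
          show fd p.1 * (a : G) * (fd p.1)⁻¹ = p.1.1.1
          have := hfe p.1
          rwa [p.2] at this⟩ : orb),
        (⟨_, (hw p).choose, (hw p).choose_spec⟩ : orb))) ?_
      intro p q h
      obtain ⟨h1, h2⟩ := Prod.ext_iff.1 h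
      replace h1 : p.1.1.1 = q.1.1.1 := congrArg Subtype.val h1
      replace h2 : p.1.1.1 * (x⁻¹ * (p.1.1.1 * p.1.1.2)) = q.1.1.1 * (x⁻¹ * (q.1.1.1 * q.1.1.2)) :=
        congrArg Subtype.val h2
      rw [h1] at h2
      exact Subtype.ext (Subtype.ext (Prod.ext h1
        (mul_left_cancel (mul_left_cancel (mul_left_cancel h2)))))
    calc Nat.card (O W u) * Nat.card (O W u) * Nat.card {p : S // fa p = a} * (c * c)
        ≤ Nat.card (O W u) * Nat.card (O W u) * (Nat.card orb * Nat.card orb) * (c * c) := by gcongr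
      _ = Nat.card (O W u) * Nat.card (O W u) * Nat.card K * Nat.card K := by rw [← horb]; ring
      _ ≤ Nat.card W * (c * c) * Nat.card K := Nat.mul_le_mul_right _ hkey
      _ = Nat.card W * Nat.card K * (c * c) := by ring
  rw [← Nat.card_congr (Equiv.sigmaFiberEquiv fa), Nat.card_sigma, Finset.mul_sum,
    Nat.card_eq_fintype_card (α := A), ← Finset.card_univ, mul_comm (Nat.card W * Nat.card K),
    ← smul_eq_mul (a := (Finset.univ : Finset A).card), ← Finset.sum_const]
  refine Finset.sum_le_sum fun a _ => ?_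
  obtain ⟨c, hc, h⟩ := hfib a
  exact Nat.le_of_mul_le_mul_right h (Nat.mul_pos hc hc)

/-- The class sum bound. -/
theorem sum_le (hM : IsPModular 2 M) {u x : G} {m : ℕ} (hu : u ∈ N) (hu2 : orderOf u = 2)
    (hx : x ∈ N) (hxm : orderOf x = 2 ^ (m + 1)) :
    ∃ R : Subgroup G, IsPGroup 2 R ∧ x ∈ R ∧
      (∑ χ ∈ Finset.univ.filter (· ∈ principalBlock M G),
          χ.1 u * χ.1 u * conj (χ.1 x) / χ.1 1).re * Nat.card G ≤
        (((O W u).relIndex (centralizer {u}) * (O W u).relIndex (centralizer {u}) * Nat.card W *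
          Nat.card {a : G // a ∈ R ∧ orderOf a = 2 ∧ a * x * a⁻¹ = x⁻¹ ∧ a ≠ x} : ℕ) : ℝ) := by
  obtain ⟨R, hR, hxR, hle⟩ := D.card_pairs_le hu hu2 hx hxm
  refine ⟨R, hR, hxR, ?_⟩
  set k := Nat.card (O W x)
  set C := centralizer ({u} : Set G)
  set S := {p : G × G // IsConj u p.1 ∧ IsConj u p.2 ∧ x⁻¹ * (p.1 * p.2) ∈ O W x}
  set T := ∑ χ ∈ Finset.univ.filter (· ∈ principalBlock M G),
    χ.1 u * χ.1 u * conj (χ.1 x) / χ.1 1 with hT
  have hterm : ∀ y : O W x,
      ∑ χ : IrrCharacter G, χ.1 u * χ.1 u * conj (χ.1 (x * y)) / χ.1 1 =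
      (Nat.card {p : G × G // p.1 * (u * (p.2 * u * p.2⁻¹)) * p.1⁻¹ = x * y} : ℂ) / Nat.card G := by
    intro y
    rw [BlockCount.sum_irr_mul_mul_conj_div, ← Nat.cast_mul]
    congr 2
    rw [Nat.card_congr (((Equiv.prodComm G G).subtypeEquiv
          (p := fun p => p.1 * (u * (p.2 * u * p.2⁻¹)) * p.1⁻¹ = x * (y : G))
          (q := fun p => p.2 * (u * (p.1 * u * p.1⁻¹)) * p.2⁻¹ = x * (y : G)) fun p => Iff.rfl).trans
        (Equiv.subtypeProdEquivSigmaSubtype
          fun g h => h * (u * (g * u * g⁻¹)) * h⁻¹ = x * (y : G))), Nat.card_sigma]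
    simp only [card_conj_eq]
    rw [Finset.sum_ite, Finset.sum_const_zero, add_zero, Finset.sum_const, smul_eq_mul, mul_comm,
      Nat.card_eq_fintype_card (α := {g : G // IsConj (u * (g * u * g⁻¹)) (x * (y : G))}),
      Fintype.card_subtype]
  have hsum : ∑ y : O W x, Nat.card {p : G × G // p.1 * (u * (p.2 * u * p.2⁻¹)) * p.1⁻¹ = x * y} ≤
      Nat.card S * (Nat.card C * Nat.card C) := by
    rw [← Nat.card_sigma, ← Nat.card_prod, ← Nat.card_prod]
    let r : G → G := fun t => if h : ∃ g, g * u * g⁻¹ = t then h.choose else 1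
    have hr : ∀ g, r (g * u * g⁻¹) * u * (r (g * u * g⁻¹))⁻¹ = g * u * g⁻¹ := fun g => by
      simp only [r, dif_pos (⟨g, rfl⟩ : ∃ g', g' * u * g'⁻¹ = g * u * g⁻¹)]
      exact (⟨g, rfl⟩ : ∃ g', g' * u * g'⁻¹ = g * u * g⁻¹).choose_spec
    have hm : ∀ g, (r (g * u * g⁻¹))⁻¹ * g ∈ C := fun g => by
      refine mem_centralizer_singleton_iff.2 ?_
      have := congrArg (fun t => (r (g * u * g⁻¹))⁻¹ * t * g) (hr g)
      simpa [mul_assoc] using this.symm
    refine Nat.card_le_card_of_injective (fun t =>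
      ((⟨(t.2.1.1 * u * t.2.1.1⁻¹, t.2.1.1 * t.2.1.2 * u * (t.2.1.1 * t.2.1.2)⁻¹),
        isConj_iff.2 ⟨_, rfl⟩, isConj_iff.2 ⟨_, rfl⟩, ?_⟩ : S),
        ((⟨_, hm t.2.1.1⟩ : C), (⟨_, hm (t.2.1.1 * t.2.1.2)⟩ : C)))) ?_
    · obtain ⟨y, ⟨g, h⟩, e⟩ := t
      dsimp only at e ⊢
      rw [show g * u * g⁻¹ * (g * h * u * (g * h)⁻¹) = g * (u * (h * u * h⁻¹)) * g⁻¹ by group, e,
        inv_mul_cancel_left]
      exact y.2
    · rintro ⟨y₁, ⟨g₁, h₁⟩, e₁⟩ ⟨y₂, ⟨g₂, h₂⟩, e₂⟩ e
      simp only [Prod.mk.injEq, Subtype.mk.injEq] at e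
      obtain ⟨e, ec, ed⟩ := e
      have ea : g₁ * u * g₁⁻¹ = g₂ * u * g₂⁻¹ := congrArg (fun s : S => s.1.1) e
      have eb : g₁ * h₁ * u * (g₁ * h₁)⁻¹ = g₂ * h₂ * u * (g₂ * h₂)⁻¹ :=
        congrArg (fun s : S => s.1.2) e
      rw [ea] at ec
      obtain rfl : g₁ = g₂ := mul_left_cancel ec
      rw [eb] at ed
      obtain rfl : h₁ = h₂ := mul_left_cancel (mul_left_cancel ed)
      obtain rfl : y₁ = y₂ := Subtype.ext (mul_left_cancel (e₁.symm.trans e₂))
      rfl
  have hR : ∑ y : O W x, ∑ χ : IrrCharacter G, χ.1 u * χ.1 u * conj (χ.1 (x * y)) / χ.1 1 =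
      (k : ℂ) * T := by
    rw [Finset.sum_comm, ← Finset.sum_subset (Finset.subset_univ
      (Finset.univ.filter fun χ : IrrCharacter G => χ ∈ principalBlock M G))]
    · rw [hT, Finset.mul_sum]
      refine Finset.sum_congr rfl fun χ hχ => ?_
      rw [Finset.sum_congr rfl fun (y : O W x) _ =>
        show χ.1 u * χ.1 u * conj (χ.1 (x * y)) / χ.1 1 = χ.1 u * χ.1 u * conj (χ.1 x) / χ.1 1 by
          rw [D.apply_mul hM hx hxm (Finset.mem_filter.1 hχ).2 y.2],
        Finset.sum_const, Finset.card_univ, nsmul_eq_mul, ← Nat.card_eq_fintype_card]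
    · intro χ _ hχ
      rw [Finset.sum_congr rfl fun (y : O W x) _ =>
        show χ.1 u * χ.1 u * conj (χ.1 (x * y)) / χ.1 1 =
          (χ.1 u * χ.1 u / χ.1 1) * conj (χ.1 (x * y)) by ring, ← Finset.mul_sum, ← map_sum,
        D.sum_eq_zero hM hx hxm (fun h => hχ (Finset.mem_filter.2 ⟨Finset.mem_univ _, h⟩)),
        map_zero, mul_zero]
  rw [Finset.sum_congr rfl fun (y : O W x) _ => hterm y, ← Finset.sum_div, ← Nat.cast_sum,
    div_eq_iff (Nat.cast_ne_zero.2 Nat.card_pos.ne')] at hR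
  have hR' : ((∑ y : O W x,
      Nat.card {p : G × G // p.1 * (u * (p.2 * u * p.2⁻¹)) * p.1⁻¹ = x * y} : ℕ) : ℝ) =
      (k : ℝ) * T.re * Nat.card G := by
    have := congrArg Complex.re hR
    simpa using this
  have hk : (0 : ℝ) < k := Nat.cast_pos.2 Nat.card_pos
  refine le_of_mul_le_mul_left ?_ hk
  rw [← mul_assoc, ← hR', ← Nat.cast_mul, Nat.cast_le]
  refine le_trans hsum ?_
  obtain ⟨j, hj1, hj2⟩ := D.card_cent (m := 0) hu (by rw [hu2]; rfl)
  rw [hj2, hj1]
  calc Nat.card S * (2 ^ j * Nat.card (O W u) * (2 ^ j * Nat.card (O W u)))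
      = 2 ^ j * 2 ^ j * (Nat.card (O W u) * Nat.card (O W u) * Nat.card S) := by ring
    _ ≤ 2 ^ j * 2 ^ j * (Nat.card W * k *
        Nat.card {a : G // a ∈ R ∧ orderOf a = 2 ∧ a * x * a⁻¹ = x⁻¹ ∧ a ≠ x}) :=
      Nat.mul_le_mul_left _ hle
    _ = _ := by ring

end Data

end Cfsg.Agent.TwoNilCent
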