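import Cfsg.Agent.Lib.TwoNilCent.Fixed
import Cfsg.Agent.Lib.Involution.BaerSuzuki
import Cfsg.Agent.Lib.BlockCount.Inverted
import Cfsg.Agent.Lib.Blocks.CentralChar

/-!
# The involutions of `N / W`

All involutions of `N / W` are conjugate, with centralisers of order `|P|`.  So their number `e`
satisfies `|N| = |W| |P| e`, and either they commute pairwise and `e` is the number `i` of
involutions of `P`, or `e ≥ 2i`.
-/

set_option autoImplicit false
set_option linter.style.haveILetI false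
set_option linter.unusedSectionVars false

open Subgroup Cfsg
open Cfsg.Agent.Involution
open scoped Classical

namespace Cfsg.Agent.TwoNilCent

universe u

theorem involution_dichotomy {Q : Type*} [Group Q] [Finite Q]
    (hconj : ∀ s t : Q, orderOf s = 2 → orderOf t = 2 → IsConj s t)
    (hC : ∀ t : Q, orderOf t = 2 → IsPGroup 2 (centralizer ({t} : Set Q))) {i : ℕ}
    (hi : ∀ t : Q, orderOf t = 2 → Nat.card {s : Q // orderOf s = 2 ∧ Commute s t} = i)
    (hex : ∃ t : Q, orderOf t = 2) :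
    ((∀ s t : Q, orderOf s = 2 → orderOf t = 2 → Commute s t) ∧
        Nat.card {t : Q // orderOf t = 2} = i) ∨
      2 * i ≤ Nat.card {t : Q // orderOf t = 2} := by
  haveI : Fact (Nat.Prime 2) := ⟨Nat.prime_two⟩
  by_cases hall : ∀ s t : Q, orderOf s = 2 → orderOf t = 2 →
      ∃ r : Q, orderOf r = 2 ∧ Commute s r ∧ Commute t r
  · refine Or.inl ?_
    have hE : IsPGroup 2 (Subgroup.closure {s : Q | orderOf s = 2}) := by
      refine baer_suzuki_set _ (fun g c hc => by rw [Set.mem_ofPred_eq, StrongEmb.orderOf_conj', hc])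
        fun a ha b hb => ?_
      obtain ⟨r, hr, har, hbr⟩ := hall a b ha hb
      refine (hC r hr).to_le ((closure_le _).2 ?_)
      rintro y (rfl | rfl)
      · exact mem_centralizer_singleton_iff.2 har.eq
      · exact mem_centralizer_singleton_iff.2 hbr.eq
    set E := Subgroup.closure {s : Q | orderOf s = 2}
    obtain ⟨t₀, ht₀⟩ := hex
    haveI : Nontrivial E := ⟨⟨t₀, subset_closure ht₀⟩, 1, fun h => by
      have h' : t₀ = 1 := congrArg Subtype.val h
      rw [h', orderOf_one] at ht₀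
      exact absurd ht₀ (by decide)⟩
    haveI : Nontrivial (center E) := hE.center_nontrivial
    obtain ⟨z, hz⟩ := exists_prime_orderOf_dvd_card' (G := center E) 2 (by
      obtain ⟨j, hj⟩ := IsPGroup.iff_card.1 (hE.to_subgroup (center E))
      have h1 : 1 < Nat.card (center E) := Finite.one_lt_card
      rcases j with _ | j
      · rw [hj, pow_zero] at h1; exact absurd h1 (lt_irrefl _)
      · rw [hj, pow_succ]; exact dvd_mul_left _ _)
    have hz2 : orderOf ((z : E) : Q) = 2 := by rw [orderOf_coe, orderOf_coe, hz]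
    have hcomm : ∀ s t : Q, orderOf s = 2 → orderOf t = 2 → Commute s t := by
      intro s t hs ht
      obtain ⟨g, hg⟩ := isConj_iff.1 (hconj _ s hz2 hs)
      have ht' : orderOf (g⁻¹ * t * g⁻¹⁻¹) = 2 := by rw [StrongEmb.orderOf_conj', ht]
      have h1 : Commute ((z : E) : Q) (g⁻¹ * t * g⁻¹⁻¹) :=
        (congrArg Subtype.val (mem_center_iff.1 z.2 ⟨_, subset_closure ht'⟩)).symm
      have h2 := (Commute.conj_iff g).2 h1
      rwa [hg, show g * (g⁻¹ * t * g⁻¹⁻¹) * g⁻¹ = t by group] at h2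
    exact ⟨hcomm, (Nat.card_congr (Equiv.subtypeEquivRight fun s =>
      ⟨fun h => ⟨h, hcomm s t₀ h ht₀⟩, And.left⟩)).trans (hi t₀ ht₀)⟩
  · refine Or.inr ?_
    push Not at hall
    obtain ⟨s, t, hs, ht, hno⟩ := hall
    rw [two_mul]
    nth_rewrite 1 [← hi s hs]
    rw [← hi t ht, ← Nat.card_sum]
    refine Nat.card_le_card_of_injective
      (Sum.elim (fun r => ⟨r.1, r.2.1⟩) (fun r => ⟨r.1, r.2.1⟩)) ?_
    rintro (r | r) (r' | r') h <;>
      simp only [Sum.elim_inl, Sum.elim_inr, Subtype.mk.injEq] at h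
    · exact congrArg Sum.inl (Subtype.ext h)
    · exact absurd (h ▸ r'.2.2.symm) (hno r.1 r.2.1 r.2.2.symm)
    · exact absurd (h.symm ▸ r.2.2.symm) (hno r'.1 r'.2.1 r'.2.2.symm)
    · exact congrArg Sum.inr (Subtype.ext h)

variable {G : Type u} [Group G]

namespace Data

variable {N W : Subgroup G} (D : Data N W) [Fintype G]
include D

/-- An involution mod `W` lifts to an involution. -/
theorem exists_involution_lift {y : G} (hy : y ∈ N) (hy1 : y ∉ W) (hy2 : y * y ∈ W) :
    ∃ t ∈ N, orderOf t = 2 ∧ y⁻¹ * t ∈ W := by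
  obtain ⟨a, b, hb, hab⟩ : ∃ a b, ¬ 2 ∣ b ∧ orderOf y = 2 ^ a * b :=
    Nat.exists_eq_pow_mul_and_not_dvd (orderOf_pos y).ne' 2 (by norm_num)
  obtain ⟨c, hc⟩ : Odd b := Nat.odd_iff.2 (Nat.two_dvd_ne_zero.1 hb)
  have hmem : y⁻¹ * y ^ b ∈ W := by
    rw [hc, pow_succ', inv_mul_cancel_left, pow_mul, pow_two]
    exact pow_mem hy2 c
  have hord : orderOf (y ^ b) = 2 ^ a := by
    rw [orderOf_pow_of_dvd (by omega) (hab ▸ dvd_mul_left _ _), hab,
      Nat.mul_div_cancel _ (by omega)]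
  have hne : y ^ b ∉ W := fun h => hy1 (by
    have := mul_mem h (inv_mem hmem)
    rwa [mul_inv_rev, inv_inv, mul_inv_cancel_left] at this)
  refine ⟨y ^ b, pow_mem hy b, orderOf_eq_prime ?_ (fun h => hne (h ▸ one_mem W)), hmem⟩
  refine D.eq_one_of_mem_of_two (j := a - 1) ?_ ?_
  · rw [← pow_mul, mul_comm, pow_mul, pow_two]; exact pow_mem hy2 b
  · rcases a with _ | a
    · rw [pow_zero, orderOf_eq_one_iff] at hord
      exact absurd (hord ▸ one_mem W) hne
    · rw [orderOf_pow_of_dvd two_ne_zero (hord ▸ dvd_pow_self 2 (by omega)), hord, pow_succ,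
        Nat.mul_div_cancel _ two_pos, Nat.add_sub_cancel]

/-- An element centralising an involution mod `W` is congruent to one centralising it. -/
theorem exists_mem_cent {t y : G} (ht : t ∈ N) (ht2 : orderOf t = 2)
    (h : y * t * y⁻¹ * t ∈ W) : ∃ d ∈ W, Commute (d * y) t := by
  have hc : t * (y * t * y⁻¹) ∈ W := by
    have := D.conj_mem_W ht h
    rwa [show t * (y * t * y⁻¹ * t) * t⁻¹ = t * (y * t * y⁻¹) by group] at this
  have htt := StrongEmb.mul_self_of_orderOf ht2
  obtain ⟨d, hd, hde⟩ := BlockCount.exists_conj_eq_of_coset D.odd htt hc (by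
    rw [← mul_assoc t t, htt, one_mul,
      show y * t * y⁻¹ * (y * t * y⁻¹) = y * (t * t) * y⁻¹ by group, htt]
    group)
  rw [← mul_assoc t t, htt, one_mul] at hde
  refine ⟨d⁻¹, inv_mem hd, mul_inv_eq_iff_eq_mul.1 ?_⟩
  calc d⁻¹ * y * t * (d⁻¹ * y)⁻¹ = d⁻¹ * (y * t * y⁻¹) * d := by group
    _ = t := by rw [← hde]; group

theorem relIndex_O_eq (P : Sylow 2 G) {u : G}
    (huN : u ∈ N) (hu2 : orderOf u = 2) (hPu : ∀ p ∈ (P : Subgroup G), Commute p u) :
    (O W u).relIndex (centralizer {u}) = Nat.card (P : Subgroup G) := by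
  haveI : Fact (Nat.Prime 2) := ⟨Nat.prime_two⟩
  obtain ⟨j, hj1, hj2⟩ := D.card_cent (m := 0) huN (by rw [hu2]; rfl)
  have hle : (P : Subgroup G) ≤ centralizer {u} := fun p hp =>
    mem_centralizer_singleton_iff.2 (hPu p hp).eq
  have h1 : Nat.card (P : Subgroup G) ∣ 2 ^ j := by
    obtain ⟨i, hi⟩ := IsPGroup.iff_card.1 P.2
    refine Nat.Coprime.dvd_of_dvd_mul_right ?_ (hj2 ▸ card_dvd_of_le hle)
    rw [show Nat.card (P : Subgroup G) = 2 ^ i from hi]
    exact ((Nat.coprime_two_left).2 (D.odd_O u)).pow_left _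
  have h2 : 2 ^ j ∣ Nat.card (P : Subgroup G) := by
    have : 2 ^ j ∣ Nat.card G :=
      (dvd_mul_right _ _).trans (hj2 ▸ Subgroup.card_subgroup_dvd_card _)
    rw [← card_mul_index (P : Subgroup G)] at this
    exact (((Nat.Prime.coprime_iff_not_dvd Nat.prime_two).2 P.not_dvd_index).pow_left
      j).dvd_of_dvd_mul_right this
  rw [hj1]; exact Nat.dvd_antisymm h2 h1

/-- `|N| = |W| |P| e`, `e` the number of involutions of `N / W`. -/
theorem counting (P : Sylow 2 G) (hPN : (P : Subgroup G) ≤ N) {u : G}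
    (huP : u ∈ (P : Subgroup G)) (hu2 : orderOf u = 2)
    (hPu : ∀ p ∈ (P : Subgroup G), Commute p u) :
    ∃ e : ℕ, Nat.card N = Nat.card W * Nat.card (P : Subgroup G) * e ∧
      ((e = Nat.card {a : G // a ∈ (P : Subgroup G) ∧ orderOf a = 2} ∧
          ∀ s ∈ N, ∀ t ∈ N, orderOf s = 2 → orderOf t = 2 → s * t * s * t ∈ W) ∨
        2 * Nat.card {a : G // a ∈ (P : Subgroup G) ∧ orderOf a = 2} ≤ e) := by
  haveI : Fact (Nat.Prime 2) := ⟨Nat.prime_two⟩
  haveI hn : (W.subgroupOf N).Normal := ⟨fun y hy g => by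
    rw [mem_subgroupOf] at hy ⊢; exact D.conj_mem_W g.2 hy⟩
  let π : N →* N ⧸ W.subgroupOf N := QuotientGroup.mk' (W.subgroupOf N)
  have hπ1 : ∀ y : N, π y = 1 ↔ (y : G) ∈ W := fun y => by
    show (QuotientGroup.mk y : N ⧸ W.subgroupOf N) = 1 ↔ _
    rw [QuotientGroup.eq_one_iff, mem_subgroupOf]
  have hπe : ∀ y z : N, π y = π z ↔ (y : G)⁻¹ * z ∈ W := fun y z => by
    show (QuotientGroup.mk y : N ⧸ W.subgroupOf N) = QuotientGroup.mk z ↔ _
    rw [QuotientGroup.eq, mem_subgroupOf]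
    rfl
  -- images of involutions
  have himg : ∀ y : N, orderOf (y : G) = 2 → orderOf (π y) = 2 := fun y hy => by
    refine orderOf_eq_prime ?_ fun h => ?_
    · rw [← map_pow, hπ1, coe_pow, ← hy, pow_orderOf_eq_one]; exact one_mem W
    · have := D.eq_one_of_mem_of_two ((hπ1 y).1 h) (j := 1) (by rw [hy, pow_one])
      rw [this, orderOf_one] at hy
      exact absurd hy (by decide)
  have hlift : ∀ q : N ⧸ W.subgroupOf N, orderOf q = 2 → ∃ t : N, orderOf (t : G) = 2 ∧ π t = q := by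
    intro q hq
    obtain ⟨y, rfl⟩ := QuotientGroup.mk'_surjective (W.subgroupOf N) q
    change orderOf (π y) = 2 at hq
    obtain ⟨t, ht, ht2, hyt⟩ := D.exists_involution_lift y.2 (fun h => by
      rw [(hπ1 y).2 h, orderOf_one] at hq; exact absurd hq (by decide)) (by
      have h := (hπ1 (y * y)).1 (by rw [map_mul]; exact StrongEmb.mul_self_of_orderOf hq)
      exact h)
    exact ⟨⟨t, ht⟩, ht2, ((hπe y ⟨t, ht⟩).2 hyt).symm⟩
  have hconj : ∀ s t : N ⧸ W.subgroupOf N, orderOf s = 2 → orderOf t = 2 → IsConj s t := by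
    intro s t hs ht
    obtain ⟨s, hs2, rfl⟩ := hlift s hs
    obtain ⟨t, ht2, rfl⟩ := hlift t ht
    obtain ⟨g, hg, e⟩ := D.exists_conj s.2 hs2 t.2 ht2
    exact isConj_iff.2 ⟨π ⟨g, hg⟩, by rw [← map_inv, ← map_mul, ← map_mul]; exact congrArg π (Subtype.ext e)⟩
  -- centralisers
  have hcent : ∀ t : N, orderOf (t : G) = 2 →
      Nat.card (centralizer ({π t} : Set (N ⧸ W.subgroupOf N))) =
        (O W (t : G)).relIndex (centralizer {(t : G)}) := by
    intro t ht
    have hle : centralizer ({(t : G)} : Set G) ≤ N := D.cent_le (m := 0) t.2 (by rw [ht]; rfl)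
    let φ : centralizer ({(t : G)} : Set G) →* N ⧸ W.subgroupOf N := π.comp (Subgroup.inclusion hle)
    have hrange : φ.range = centralizer ({π t} : Set (N ⧸ W.subgroupOf N)) := by
      ext q
      rw [MonoidHom.mem_range, mem_centralizer_singleton_iff]
      constructor
      · rintro ⟨c, rfl⟩
        show π (Subgroup.inclusion hle c) * π t = π t * π (Subgroup.inclusion hle c)
        rw [← map_mul, ← map_mul]
        exact congrArg π (Subtype.ext (mem_centralizer_singleton_iff.1 c.2))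
      · intro hq
        obtain ⟨y, rfl⟩ := QuotientGroup.mk'_surjective (W.subgroupOf N) q
        change π y * π t = π t * π y at hq
        have h1 : ((y * t * y⁻¹ * t : N) : G) ∈ W := (hπ1 _).1 (by
          rw [map_mul, map_mul, map_mul, map_inv, hq, mul_inv_cancel_right, ← map_mul, hπ1,
            Subgroup.coe_mul, StrongEmb.mul_self_of_orderOf ht]
          exact one_mem W)
        obtain ⟨d, hd, hdy⟩ := D.exists_mem_cent t.2 ht h1
        refine ⟨⟨d * y, mem_centralizer_singleton_iff.2 hdy.eq⟩, ?_⟩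
        show π ⟨d * y, _⟩ = π y
        rw [hπe]
        show (d * y)⁻¹ * y ∈ W
        have := D.conj_mem_W (inv_mem y.2) (inv_mem hd)
        rwa [show (y : G)⁻¹ * d⁻¹ * (y : G)⁻¹⁻¹ = (d * y)⁻¹ * y by group] at this
    have hker : φ.ker = (O W (t : G)).subgroupOf (centralizer {(t : G)}) := by
      ext c
      rw [MonoidHom.mem_ker, mem_subgroupOf, mem_O]
      show π (Subgroup.inclusion hle c) = 1 ↔ _
      rw [hπ1]
      exact ⟨fun h => ⟨h, mem_centralizer_singleton_iff.1 c.2⟩, And.left⟩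
    rw [← hrange, ← index_ker, hker]
    rfl
  have huN := hPN huP
  let u' : N := ⟨u, huN⟩
  have hcu : Nat.card (centralizer ({π u'} : Set (N ⧸ W.subgroupOf N))) =
      Nat.card (P : Subgroup G) := (hcent u' hu2).trans (D.relIndex_O_eq P huN hu2 hPu)
  have hC : ∀ t : N ⧸ W.subgroupOf N, orderOf t = 2 →
      IsPGroup 2 (centralizer ({t} : Set (N ⧸ W.subgroupOf N))) := by
    intro t ht
    obtain ⟨t, ht2, rfl⟩ := hlift t ht
    obtain ⟨j, hj, -⟩ := D.card_cent (m := 0) t.2 (by rw [ht2]; rfl)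
    exact IsPGroup.of_card (n := j) ((hcent t ht2).trans hj)
  set i := Nat.card {a : G // a ∈ (P : Subgroup G) ∧ orderOf a = 2}
  -- the involutions commuting with `π u`
  have hiu : Nat.card {s : N ⧸ W.subgroupOf N // orderOf s = 2 ∧ Commute s (π u')} = i := by
    let ψ : (P : Subgroup G) →* centralizer ({π u'} : Set (N ⧸ W.subgroupOf N)) :=
      (π.comp (Subgroup.inclusion hPN)).codRestrict _ fun p =>
        mem_centralizer_singleton_iff.2 (by
          show π (Subgroup.inclusion hPN p) * π u' = π u' * π (Subgroup.inclusion hPN p)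
          rw [← map_mul, ← map_mul]
          exact congrArg π (Subtype.ext (hPu p p.2).eq))
    have hψ : Function.Bijective ψ := by
      refine Function.Injective.bijective_of_nat_card_le ?_ hcu.le
      refine (injective_iff_map_eq_one ψ).2 fun p hp => Subtype.ext ?_
      exact D.eq_one_of_mem_P P.2 ((hπ1 _).1 (congrArg Subtype.val hp : _)) p.2
    let ψe := MulEquiv.ofBijective ψ hψ
    refine (Nat.card_congr
      (⟨fun a => ⟨(ψe ⟨a.1, a.2.1⟩).1, ?_, ?_⟩,
        fun s => ⟨((ψe.symm ⟨s.1, mem_centralizer_singleton_iff.2 s.2.2⟩ : (P : Subgroup G)) : G),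
          SetLike.coe_mem _, ?_⟩, fun a => ?_, fun s => ?_⟩ :
        {a : G // a ∈ (P : Subgroup G) ∧ orderOf a = 2} ≃
          {s : N ⧸ W.subgroupOf N // orderOf s = 2 ∧ Commute s (π u')})).symm
    · rw [orderOf_coe, MulEquiv.orderOf_eq, ← orderOf_coe, a.2.2]
    · exact mem_centralizer_singleton_iff.1 (ψe ⟨a.1, a.2.1⟩).2
    · rw [orderOf_coe, MulEquiv.orderOf_eq, ← orderOf_coe, s.2.1]
    · exact Subtype.ext (by simp)
    · exact Subtype.ext (by simp)
  have hi : ∀ t : N ⧸ W.subgroupOf N, orderOf t = 2 →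
      Nat.card {s : N ⧸ W.subgroupOf N // orderOf s = 2 ∧ Commute s t} = i := by
    intro t ht
    obtain ⟨g, hg⟩ := isConj_iff.1 (hconj _ t (himg u' hu2) ht)
    rw [← hiu, ← hg]
    refine (Nat.card_congr ((MulAut.conj g).toEquiv.subtypeEquiv fun s => ?_)).symm
    show _ ↔ orderOf (g * s * g⁻¹) = 2 ∧ Commute (g * s * g⁻¹) (g * π u' * g⁻¹)
    rw [StrongEmb.orderOf_conj', Commute.conj_iff]
  refine ⟨Nat.card {t : N ⧸ W.subgroupOf N // orderOf t = 2}, ?_, ?_⟩
  · have h1 : Nat.card {t : N ⧸ W.subgroupOf N // orderOf t = 2} =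
        (centralizer ({π u'} : Set (N ⧸ W.subgroupOf N))).index := by
      rw [← Blocks.card_isConj_eq_index]
      refine Nat.card_congr (Equiv.subtypeEquivRight fun t => ⟨fun h => hconj _ _ (himg u' hu2) h,
        fun h => ?_⟩)
      obtain ⟨g, rfl⟩ := isConj_iff.1 h
      rw [StrongEmb.orderOf_conj', himg u' hu2]
    rw [h1, mul_assoc, ← hcu, card_mul_index, ← index_eq_card,
      ← Nat.card_congr (subgroupOfEquivOfLe D.le).toEquiv, card_mul_index]
  · rcases involution_dichotomy hconj hC hi ⟨_, himg u' hu2⟩ with ⟨hcomm, he⟩ | he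
    · refine Or.inl ⟨he, fun s hs t ht hs2 ht2 => (hπ1 (⟨s, hs⟩ * ⟨t, ht⟩ * ⟨s, hs⟩ * ⟨t, ht⟩)).1 ?_⟩
      have h1 : π ⟨s, hs⟩ * π ⟨s, hs⟩ = 1 := StrongEmb.mul_self_of_orderOf (himg ⟨s, hs⟩ hs2)
      have h2 : π ⟨t, ht⟩ * π ⟨t, ht⟩ = 1 := StrongEmb.mul_self_of_orderOf (himg ⟨t, ht⟩ ht2)
      rw [map_mul, map_mul, map_mul, (hcomm _ _ (himg ⟨s, hs⟩ hs2) (himg ⟨t, ht⟩ ht2)).eq,
        mul_assoc _ (π ⟨s, hs⟩) (π ⟨s, hs⟩), h1, mul_one, h2]
    · exact Or.inr he

end Data

end Cfsg.Agent.TwoNilCent
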