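import Cfsg.Agent.Lib.TwoNilCent.Block
import Mathlib.RepresentationTheory.Invariants
import Mathlib.RepresentationTheory.Subrepresentation

/-!
# Fixed spaces of `W` and the order bound

For a principal block character `χ` the sum over `P \ {1}` is at least `-dim Fix(W)`, and if five
conjugates of `W` generate `G` then `5 dim Fix(W) ≤ 4 χ(1)` for `χ ≠ 1`.  With the class sum bound
this gives `(|P| - 1) |G| ≤ 5 |P|² |W| A`.
-/

set_option autoImplicit false
set_option linter.style.haveILetI false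
set_option linter.unusedSectionVars false

open Subgroup Cfsg
open Cfsg.Agent.Involution
open scoped ComplexConjugate Classical Pointwise

namespace Cfsg.Agent.TwoNilCent

universe u

variable {G : Type u} [Group G]

theorem sum_character_eq {H : Type*} [Group H] [Fintype H] {n : ℕ}
    (ρ : Representation ℂ H (Fin n → ℂ)) :
    ∑ g, ρ.character g =
      (Fintype.card H : ℂ) * (Module.finrank ℂ (Representation.invariants ρ) : ℂ) := by
  haveI := invertibleOfNonzero
    (Nat.cast_ne_zero.2 Fintype.card_ne_zero : (Fintype.card H : ℂ) ≠ 0)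
  have h := (Representation.isProj_averageMap ρ).trace
  have hP : Representation.averageMap ρ = (⅟(Fintype.card H : ℂ)) • ∑ u : H, ρ u := by
    simp [Representation.averageMap, GroupAlgebra.average, map_sum]
  rw [hP, map_smul, map_sum, smul_eq_mul] at h
  rw [← h, ← mul_assoc, mul_invOf_self, one_mul]
  rfl

theorem sub_finrank_inf_le' {n : ℕ} {ι : Type*} (s : Finset ι)
    (f : ι → Submodule ℂ (Fin n → ℂ)) :
    (n : ℤ) - Module.finrank ℂ (s.inf f : Submodule ℂ (Fin n → ℂ)) ≤
      ∑ i ∈ s, ((n : ℤ) - Module.finrank ℂ (f i)) := by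
  induction s using Finset.induction_on with
  | empty =>
    rw [Finset.inf_empty, finrank_top, Module.finrank_fin_fun, Finset.sum_empty, sub_self]
  | insert i s hi ih =>
    rw [Finset.inf_insert, Finset.sum_insert hi]
    have h1 := Submodule.finrank_sup_add_finrank_inf_eq (f i) (s.inf f)
    have h2 : Module.finrank ℂ (f i ⊔ s.inf f : Submodule ℂ (Fin n → ℂ)) ≤ n :=
      (Submodule.finrank_le _).trans (le_of_eq (Module.finrank_fin_fun ℂ))
    omega

variable [Fintype G]

/-- `m` conjugates of a subgroup generating `G`: the fixed space has dimension at most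
`(m - 1) χ(1) / m`. -/
theorem finrank_invariants_le {n : ℕ} (ρ : Representation ℂ G (Fin n → ℂ)) [ρ.IsIrreducible]
    (hρ : ∃ g, ρ.character g ≠ 1) (W : Subgroup G) {m : ℕ} (g : Fin m → G)
    (hgen : ∀ T : Subgroup G, (∀ i, ∀ w ∈ W, g i * w * (g i)⁻¹ ∈ T) → T = ⊤) :
    (m : ℤ) * Module.finrank ℂ (Representation.invariants (ρ.comp W.subtype)) ≤
      ((m : ℤ) - 1) * n := by
  set U := Representation.invariants (ρ.comp W.subtype)
  have hinj : ∀ a : G, Function.Injective (ρ a) := fun a v w h => by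
    have := congrArg (ρ a⁻¹) h
    simpa [← Module.End.mul_apply, ← map_mul] using this
  let f : Fin m → Submodule ℂ (Fin n → ℂ) := fun i => U.map (ρ (g i))
  have hf : ∀ i, Module.finrank ℂ (f i) = Module.finrank ℂ U := fun i =>
    (Submodule.equivMapOfInjective (ρ (g i)) (hinj _) U).finrank_eq.symm
  set F : Submodule ℂ (Fin n → ℂ) := Finset.univ.inf f with hF
  have hfix : ∀ v ∈ F, ∀ a : G, ρ a v = v := by
    intro v hv a
    let K : Subgroup G :=
      { carrier := {w | ρ w v = v}
        one_mem' := by simp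
        mul_mem' := fun {x y} hx hy => by
          show ρ (x * y) v = v
          rw [map_mul, Module.End.mul_apply, hy, hx]
        inv_mem' := fun {x} hx => by
          have hx' : ρ x v = v := hx
          show ρ x⁻¹ v = v
          conv_lhs => rw [← hx']
          rw [← Module.End.mul_apply, ← map_mul, inv_mul_cancel, map_one, Module.End.one_apply] }
    have : K = ⊤ := hgen K fun i w hw => by
      obtain ⟨u, hu, rfl⟩ := Submodule.mem_finsetInf.mp hv i (Finset.mem_univ _)
      show ρ (g i * w * (g i)⁻¹) (ρ (g i) u) = ρ (g i) u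
      have e : ρ w u = u := hu ⟨w, hw⟩
      rw [← Module.End.mul_apply, ← map_mul, inv_mul_cancel_right, map_mul, Module.End.mul_apply, e]
    exact (this ▸ mem_top a : a ∈ K)
  let S : Subrepresentation ρ := ⟨F, fun a v hv => by rw [hfix v hv a]; exact hv⟩
  rcases IsSimpleOrder.eq_bot_or_eq_top S with hS | hS
  · have h1 := sub_finrank_inf_le' Finset.univ f
    have hF0 : F = ⊥ := congrArg Subrepresentation.toSubmodule hS
    rw [← hF, hF0, finrank_bot] at h1
    simp only [hf, Finset.sum_const, Finset.card_univ, Fintype.card_fin, nsmul_eq_mul] at h1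
    push_cast at h1
    linarith
  · exfalso
    have hF1 : F = ⊤ := congrArg Subrepresentation.toSubmodule hS
    have htriv : ∀ a : G, ρ a = 1 := fun a => LinearMap.ext fun v =>
      hfix v (hF1 ▸ Submodule.mem_top) a
    have hn : n = 1 := by
      haveI := Char.nontrivial_of_isIrreducible ρ
      obtain ⟨v, hv⟩ := exists_ne (0 : Fin n → ℂ)
      let S' : Subrepresentation ρ := ⟨ℂ ∙ v, fun a w hw => by rw [htriv a]; exact hw⟩
      rcases IsSimpleOrder.eq_bot_or_eq_top S' with h | h
      · exact absurd (Submodule.span_singleton_eq_bot.1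
          (congrArg Subrepresentation.toSubmodule h)) hv
      · have h' : (ℂ ∙ v) = ⊤ := congrArg Subrepresentation.toSubmodule h
        have := finrank_span_singleton (K := ℂ) hv
        rw [h', finrank_top, Module.finrank_fin_fun] at this
        exact this
    obtain ⟨a, ha⟩ := hρ
    apply ha
    subst hn
    simp [Representation.character, htriv a]

namespace Data

variable {N W : Subgroup G} (D : Data N W)
include D

theorem exists_pow_eq {x : G} {m : ℕ} (hxm : orderOf x = 2 ^ (m + 1)) :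
    ∃ e : ℕ, ∀ y ∈ O W x, (x * y) ^ e = x := by
  obtain ⟨e, he1, he2⟩ : ∃ e : ℕ, e ≡ 1 [MOD orderOf x] ∧ e ≡ 0 [MOD Nat.card (O W x)] := by
    have hco : (orderOf x).Coprime (Nat.card (O W x)) := by
      rw [hxm]; exact ((Nat.coprime_two_left).2 (D.odd_O x)).pow_left _
    exact ⟨_, (Nat.chineseRemainder hco 1 0).2⟩
  refine ⟨e, fun y hy => ?_⟩
  rw [(mem_O.1 hy).2.symm.mul_pow]
  have h1 : x ^ e = x := by
    conv_rhs => rw [← pow_one x]
    exact pow_eq_pow_iff_modEq.2 he1
  have h2 : y ^ e = 1 := by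
    obtain ⟨c, hc⟩ := Nat.modEq_zero_iff_dvd.1 he2
    rw [hc, pow_mul, show y ^ Nat.card (O W x) = 1 from congrArg Subtype.val
      (pow_card_eq_one' (G := O W x) (x := ⟨y, hy⟩)), one_pow]
  rw [h1, h2, mul_one]

/-- Every element of `x W` is `W`-conjugate into `x C_W(x)`. -/
theorem exists_conj_coset {x : G} {m : ℕ} (hx : x ∈ N) (hxm : orderOf x = 2 ^ (m + 1)) {w : G}
    (hw : w ∈ W) : ∃ d ∈ W, ∃ y ∈ O W x, x * w = d * (x * y) * d⁻¹ := by
  obtain ⟨e, he⟩ := D.exists_pow_eq hxm
  set K : Subgroup W := (O W x).subgroupOf W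
  let T := (W ⧸ K) × (O W x : Subgroup G)
  have hmem : ∀ p : T, x⁻¹ * (((p.1.out : W) : G) * (x * p.2) * ((p.1.out : W) : G)⁻¹) ∈ W :=
    fun p => by
    set d : G := ((p.1.out : W) : G)
    have hd : d ∈ W := SetLike.coe_mem _
    rw [show x⁻¹ * (d * (x * (p.2 : G)) * d⁻¹) =
      x⁻¹ * d * x⁻¹⁻¹ * (p.2 : G) * d⁻¹ by group]
    exact mul_mem (mul_mem (D.conj_mem_W (inv_mem hx) hd) p.2.2.1) (inv_mem hd)
  let f : T → W := fun p => ⟨_, hmem p⟩
  have hinj : Function.Injective f := by
    rintro ⟨q, y⟩ ⟨q', y'⟩ h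
    have h0 : ((q.out : W) : G) * (x * y) * ((q.out : W) : G)⁻¹ =
        ((q'.out : W) : G) * (x * y') * ((q'.out : W) : G)⁻¹ :=
      mul_left_cancel (congrArg Subtype.val h : _)
    have h1 := congrArg (· ^ e) h0
    simp only [conj_pow, he _ y.2, he _ y'.2] at h1
    have hq : q = q' := by
      rw [← QuotientGroup.out_eq' q, ← QuotientGroup.out_eq' q', QuotientGroup.eq]
      show (((q.out : W)⁻¹ * q'.out : W) : G) ∈ O W x
      refine mem_O.2 ⟨SetLike.coe_mem _, mul_inv_eq_iff_eq_mul.1 ?_⟩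
      push_cast
      calc ((q.out : W) : G)⁻¹ * q'.out * x * (((q.out : W) : G)⁻¹ * q'.out)⁻¹
          = ((q.out : W) : G)⁻¹ * (((q'.out : W) : G) * x * ((q'.out : W) : G)⁻¹) * q.out := by
            group
        _ = x := by rw [← h1]; group
    subst hq
    obtain rfl : y = y' := Subtype.ext (mul_left_cancel (mul_left_cancel (mul_right_cancel h0)))
    rfl
  have hbij : Function.Bijective f := by
    refine hinj.bijective_of_nat_card_le (le_of_eq ?_)
    rw [Nat.card_prod, ← index_eq_card, ← card_mul_index K, mul_comm,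
      Nat.card_congr (subgroupOfEquivOfLe inf_le_left).toEquiv]
  obtain ⟨⟨q, y⟩, hp⟩ := hbij.2 ⟨w, hw⟩
  refine ⟨_, SetLike.coe_mem (q.out : W), y, y.2, ?_⟩
  have := congrArg Subtype.val hp
  simp only [f] at this
  rw [← this, mul_inv_cancel_left]

variable {M : Ideal AlgInt} [Fact (Nat.Prime 2)] [M.IsMaximal]

/-- Principal block characters are constant on `x W`. -/
theorem apply_mul_W (hM : IsPModular 2 M) {x : G} {m : ℕ} (hx : x ∈ N)
    (hxm : orderOf x = 2 ^ (m + 1)) {χ : IrrCharacter G} (hχ : χ ∈ principalBlock M G) {w : G}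
    (hw : w ∈ W) : χ.1 (x * w) = χ.1 x := by
  obtain ⟨d, -, y, hy, e⟩ := D.exists_conj_coset hx hxm hw
  rw [e, (Char.IsCharacter.isClassFunction (Char.irr_isCharacter χ)) (x * y) d,
    D.apply_mul hM hx hxm hχ hy]

/-- The sum over `P \ {1}` is at least `-dim Fix(W)`. -/
theorem sum_ge (hM : IsPModular 2 M) {P : Subgroup G} (hP : IsPGroup 2 P) (hPN : P ≤ N)
    {χ : IrrCharacter G} (hχ : χ ∈ principalBlock M G) {n : ℕ}
    (ρ : Representation ℂ G (Fin n → ℂ)) (hρ : ρ.character = χ.1) :
    -(Module.finrank ℂ (Representation.invariants (ρ.comp W.subtype)) : ℝ) ≤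
      (∑ x : {x : P // x ≠ 1}, χ.1 (x : P)).re := by
  have hn : P ≤ normalizer (W : Set G) := hPN.trans D.norm
  have hset := Subgroup.coe_mul_of_left_le_normalizer_right P W hn
  let e : P × W ≃ (P ⊔ W : Subgroup G) := Equiv.ofBijective
    (fun p => ⟨(p.1 : G) * p.2, mul_mem (mem_sup_left p.1.2) (mem_sup_right p.2.2)⟩)
    ⟨by
      rintro ⟨a, w⟩ ⟨a', w'⟩ h
      have h' : (a : G) * w = a' * w' := congrArg Subtype.val h
      have h1 : (a' : G)⁻¹ * a = w' * (w : G)⁻¹ := by
        rw [eq_mul_inv_iff_mul_eq, mul_assoc, h', inv_mul_cancel_left]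
      have h2 := D.eq_one_of_mem_P hP (w := (a' : G)⁻¹ * a) (h1 ▸ mul_mem w'.2 (inv_mem w.2))
        (mul_mem (inv_mem a'.2) a.2)
      obtain rfl : a = a' := Subtype.ext (inv_mul_eq_one.1 h2).symm
      exact Prod.ext rfl (Subtype.ext (mul_left_cancel h')),
     by
      rintro ⟨z, hz⟩
      have hz' : z ∈ ((P ⊔ W : Subgroup G) : Set G) := hz
      rw [hset] at hz'
      obtain ⟨a, ha, w, hw, rfl⟩ := hz'
      exact ⟨(⟨a, ha⟩, ⟨w, hw⟩), rfl⟩⟩
  have h1 := sum_character_eq (ρ.comp (P ⊔ W : Subgroup G).subtype)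
  have h2 := sum_character_eq (ρ.comp W.subtype)
  set d := Module.finrank ℂ (Representation.invariants (ρ.comp (P ⊔ W : Subgroup G).subtype))
  set f := Module.finrank ℂ (Representation.invariants (ρ.comp W.subtype))
  have hc : ∀ (H : Subgroup G) (g : H),
      Representation.character (ρ.comp H.subtype) g = χ.1 g :=
    fun H g => show ρ.character g = _ by rw [hρ]
  simp only [hc] at h1 h2
  rw [← e.sum_comp, Fintype.sum_prod_type, ← Fintype.card_congr e, Fintype.card_prod,
    Nat.cast_mul] at h1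
  have h3 : ∀ a : {x : P // x ≠ 1},
      ∑ w : W, χ.1 ((e ((a : P), w) : (P ⊔ W : Subgroup G)) : G) =
        (Fintype.card W : ℂ) * χ.1 (a : P) := fun a => by
    obtain ⟨j, hj⟩ := IsPGroup.iff_orderOf.1 hP (a : P)
    obtain ⟨j, rfl⟩ : ∃ j', j = j' + 1 := by
      rcases j with _ | j
      · rw [pow_zero, orderOf_eq_one_iff] at hj; exact absurd hj a.2
      · exact ⟨j, rfl⟩
    rw [← orderOf_coe] at hj
    have hw : ∀ w : W, χ.1 ((e ((a : P), w) : (P ⊔ W : Subgroup G)) : G) = χ.1 (a : P) := fun w =>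
      D.apply_mul_W hM (hPN (a : P).2) hj hχ w.2
    rw [Finset.sum_congr rfl fun w _ => hw w, Finset.sum_const, Finset.card_univ, nsmul_eq_mul]
  rw [Fintype.sum_eq_add_sum_compl (1 : P),
    Finset.sum_subtype (p := fun x : P => x ≠ 1) _ (by simp), Finset.sum_congr rfl fun a _ => h3 a,
    ← Finset.mul_sum] at h1
  have h4 : ∑ w : W, χ.1 ((e (1, w) : (P ⊔ W : Subgroup G)) : G) = ∑ w : W, χ.1 w :=
    Finset.sum_congr rfl fun w _ => by
      show χ.1 (((1 : P) : G) * w) = _
      rw [OneMemClass.coe_one, one_mul]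
  rw [h4, h2, ← mul_add, mul_comm (Fintype.card P : ℂ), mul_assoc] at h1
  have h5 := congrArg Complex.re
    (mul_left_cancel₀ (Nat.cast_ne_zero.2 Fintype.card_ne_zero) h1)
  rw [Complex.add_re, Complex.natCast_re] at h5
  rw [← Nat.cast_mul, Complex.natCast_re] at h5
  have : (0 : ℝ) ≤ ((Fintype.card P * d : ℕ) : ℝ) := Nat.cast_nonneg _
  linarith

/-- The order bound. -/
theorem key (hM : IsPModular 2 M) (P : Sylow 2 G) (hPN : (P : Subgroup G) ≤ N) {u : G}
    (huP : u ∈ (P : Subgroup G)) (hu2 : orderOf u = 2)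
    (hPu : ∀ p ∈ (P : Subgroup G), Commute p u) (g : Fin 5 → G)
    (hgen : ∀ T : Subgroup G, (∀ i, ∀ w ∈ W, g i * w * (g i)⁻¹ ∈ T) → T = ⊤) (c : G → ℕ)
    (hc : ∀ (x : G) (R : Subgroup G), x ∈ (P : Subgroup G) → x ≠ 1 → IsPGroup 2 R → x ∈ R →
      Nat.card {a : G // a ∈ R ∧ orderOf a = 2 ∧ a * x * a⁻¹ = x⁻¹ ∧ a ≠ x} ≤ c x) :
    (Nat.card (P : Subgroup G) - 1) * Nat.card G ≤
      5 * Nat.card (P : Subgroup G) ^ 2 * Nat.card W *
        ∑ x : {x : (P : Subgroup G) // x ≠ 1}, c (x : (P : Subgroup G)) := by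
  set q := Nat.card (P : Subgroup G)
  have huN := hPN huP
  have htau : (O W u).relIndex (centralizer {u}) = q := by
    obtain ⟨j, hj1, hj2⟩ := D.card_cent (m := 0) huN (by rw [hu2]; rfl)
    have hle : (P : Subgroup G) ≤ centralizer {u} := fun p hp =>
      mem_centralizer_singleton_iff.2 (hPu p hp).eq
    have h1 : q ∣ 2 ^ j := by
      obtain ⟨i, hi⟩ := IsPGroup.iff_card.1 P.2
      refine Nat.Coprime.dvd_of_dvd_mul_right ?_ (hj2 ▸ card_dvd_of_le hle)
      rw [show q = 2 ^ i from hi]
      exact ((Nat.coprime_two_left).2 (D.odd_O u)).pow_left _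
    have h2 : 2 ^ j ∣ q := by
      have : 2 ^ j ∣ Nat.card G :=
        (dvd_mul_right _ _).trans (hj2 ▸ Subgroup.card_subgroup_dvd_card _)
      rw [← card_mul_index (P : Subgroup G)] at this
      exact (((Nat.Prime.coprime_iff_not_dvd Nat.prime_two).2 P.not_dvd_index).pow_left
        j).dvd_of_dvd_mul_right this
    rw [hj1]; exact Nat.dvd_antisymm h2 h1
  choose z hz using D.exists_int hu2
  set B := Finset.univ.filter fun χ : IrrCharacter G => χ ∈ principalBlock M G with hB
  have hsq : ∑ χ ∈ B, ((z χ : ℝ) ^ 2) = q := by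
    have := D.sum_sq hM huN (m := 0) (by rw [hu2]; rfl)
    rw [htau] at this
    simp only [hz, map_intCast] at this
    apply Complex.ofReal_injective
    push_cast
    rw [← this]
    exact Finset.sum_congr rfl fun χ _ => by ring
  set T : IrrCharacter G → ℝ := fun χ =>
    (z χ : ℝ) ^ 2 / (Char.degree χ : ℝ) * (∑ x : {x : (P : Subgroup G) // x ≠ 1}, χ.1 (x : _)).re
  -- lower bound
  have htriv : Char.trivialChar G ∈ B :=
    Finset.mem_filter.2 ⟨Finset.mem_univ _, Blocks.trivial_mem_principalBlock⟩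
  have hcardP : (Fintype.card {x : (P : Subgroup G) // x ≠ 1} : ℝ) = (q : ℝ) - 1 := by
    rw [Fintype.card_subtype_compl, Fintype.card_subtype_eq, Nat.cast_sub
      (Nat.one_le_iff_ne_zero.2 Fintype.card_ne_zero), ← Nat.card_eq_fintype_card, Nat.cast_one]
  have hlow : ((q : ℝ) - 1) / 5 ≤ ∑ χ ∈ B, T χ := by
    rw [← Finset.add_sum_erase B T htriv]
    have ht : T (Char.trivialChar G) = (q : ℝ) - 1 := by
      have h1 : z (Char.trivialChar G) = 1 := by
        have := hz (Char.trivialChar G)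
        rw [Char.trivialChar_apply] at this
        exact_mod_cast this.symm
      have h2 : Char.degree (Char.trivialChar G) = 1 := by
        have := Char.apply_one_eq_degree (Char.trivialChar G)
        rw [Char.trivialChar_apply] at this
        exact_mod_cast this.symm
      simp only [T, h1, h2, Char.trivialChar_apply, Finset.sum_const, Finset.card_univ,
        nsmul_eq_mul, mul_one, Complex.natCast_re, hcardP]
      norm_num
    have hrest : ∀ χ ∈ B.erase (Char.trivialChar G), -(4 / 5 : ℝ) * (z χ : ℝ) ^ 2 ≤ T χ := by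
      intro χ hχ
      obtain ⟨hne, hχB⟩ := Finset.mem_erase.1 hχ
      obtain ⟨n, ρ, hirr, hρ⟩ := χ.2
      haveI := hirr
      have hS := D.sum_ge hM P.2 hPN (Finset.mem_filter.1 hχB).2 ρ hρ
      have hdeg : (Char.degree χ : ℝ) = n := by
        have h1 := Char.apply_one_eq_degree χ
        rw [← hρ, Representation.char_one, Module.finrank_fin_fun] at h1
        exact_mod_cast h1.symm
      have hnt : ∃ a, ρ.character a ≠ 1 := by
        by_contra hall
        push Not at hall
        exact hne (Subtype.ext (funext fun a => by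
          rw [← hρ, hall a, Char.trivialChar_apply]))
      have hf := finrank_invariants_le ρ hnt W g hgen
      have hf' : (5 : ℝ) * Module.finrank ℂ (Representation.invariants (ρ.comp W.subtype)) ≤
          4 * (Char.degree χ : ℝ) := by
        rw [hdeg]
        have := (Int.cast_le (R := ℝ)).2 hf
        push_cast at this
        linarith
      have hd : (1 : ℝ) ≤ Char.degree χ := by exact_mod_cast Char.degree_pos χ
      simp only [T]
      rw [div_mul_eq_mul_div, le_div_iff₀ (by linarith)]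
      nlinarith [sq_nonneg (z χ : ℝ)]
    have h1 := Finset.sum_le_sum hrest
    rw [← Finset.mul_sum] at h1
    have h2 : ∑ χ ∈ B.erase (Char.trivialChar G), (z χ : ℝ) ^ 2 = (q : ℝ) - 1 := by
      rw [Finset.sum_erase_eq_sub htriv, hsq]
      have := hz (Char.trivialChar G)
      rw [Char.trivialChar_apply] at this
      have h1 : z (Char.trivialChar G) = 1 := by exact_mod_cast this.symm
      rw [h1]; norm_num
    rw [h2] at h1
    rw [ht]
    linarith
  -- upper bound
  have hup : (∑ χ ∈ B, T χ) * Nat.card G ≤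
      ((q * q * Nat.card W * ∑ x : {x : (P : Subgroup G) // x ≠ 1},
        c (x : (P : Subgroup G)) : ℕ) : ℝ) := by
    have e : ∑ χ ∈ B, T χ = ∑ x : {x : (P : Subgroup G) // x ≠ 1},
        (∑ χ ∈ B, χ.1 u * χ.1 u * conj (χ.1 ((x : (P : Subgroup G)) : G)) / χ.1 1).re := by
      simp only [T, Complex.re_sum, Finset.mul_sum]
      rw [Finset.sum_comm]
      refine Finset.sum_congr rfl fun x _ => Finset.sum_congr rfl fun χ _ => ?_
      rw [hz χ, Char.apply_one_eq_degree, show ((z χ : ℂ) * (z χ : ℂ) *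
          conj (χ.1 ((x : (P : Subgroup G)) : G)) / (Char.degree χ : ℂ)) =
        (((z χ : ℝ) ^ 2 / (Char.degree χ : ℝ) : ℝ) : ℂ) *
          conj (χ.1 ((x : (P : Subgroup G)) : G)) by push_cast; ring, Complex.re_ofReal_mul,
        Complex.conj_re]
    rw [e, Finset.sum_mul, Finset.mul_sum, Nat.cast_sum]
    refine Finset.sum_le_sum fun x _ => ?_
    obtain ⟨j, hj⟩ := IsPGroup.iff_orderOf.1 P.2 (x : (P : Subgroup G))
    obtain ⟨j, rfl⟩ : ∃ j', j = j' + 1 := by
      rcases j with _ | j
      · rw [pow_zero, orderOf_eq_one_iff] at hj; exact absurd hj x.2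
      · exact ⟨j, rfl⟩
    rw [← orderOf_coe] at hj
    obtain ⟨R, hR, hxR, hle⟩ := D.sum_le hM huN hu2 (hPN (x : (P : Subgroup G)).2) hj
    rw [htau] at hle
    refine hle.trans ?_
    exact_mod_cast Nat.mul_le_mul_left _ (hc _ R (x : (P : Subgroup G)).2
      (fun h => x.2 (Subtype.ext h)) hR hxR)
  have h3 : ((q : ℝ) - 1) / 5 * Nat.card G ≤ _ :=
    le_trans (mul_le_mul_of_nonneg_right hlow (Nat.cast_nonneg _)) hup
  have hq : 1 ≤ q := Nat.one_le_iff_ne_zero.2 Nat.card_pos.ne'
  rify [hq]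
  push_cast at h3
  linarith

end Data

end Cfsg.Agent.TwoNilCent
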