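import Mathlib

/-!
# Fixed points of a four-group and of a dihedral 2-group on a group of odd order

If commuting involutory automorphisms `α`, `β` act on a group of odd order then
`|C(α)| |C(β)| |C(αβ)| ≤ |K| |C(α, β)|²`.  By induction, a 2-element `x` and an involution `a`
inverting it satisfy `k² |C_W(x)| ≤ |W| |C_W(x, a)|²` if every involution has `k` fixed points on `W`.
-/

set_option autoImplicit false

open Subgroup

namespace Cfsg.Agent.TwoNilCent

universe u

variable {G : Type u} [Group G]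

/-- In a group of odd order only the identity is conjugate to its inverse. -/
theorem eq_one_of_conj_inv' {K : Type*} [Group K] [Finite K] (hK : Odd (Nat.card K)) {z x : K}
    (h : z * x * z⁻¹ = x⁻¹) : x = 1 := by
  obtain ⟨k, hk⟩ : Odd (orderOf z) := hK.of_dvd_nat (orderOf_dvd_natCard z)
  have h2 : Commute (z * z) x := by
    show z * z * x = x * (z * z)
    have h3 : z * x⁻¹ * z⁻¹ = x := by
      have := congrArg (·⁻¹) h
      simpa [mul_assoc] using this
    calc z * z * x = z * (z * x * z⁻¹) * z := by group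
      _ = z * x⁻¹ * z := by rw [h]
      _ = (z * x⁻¹ * z⁻¹) * (z * z) := by group
      _ = x * (z * z) := by rw [h3]
  have hz : z = ((z * z) ^ k)⁻¹ := by
    refine eq_inv_of_mul_eq_one_left ?_
    rw [← pow_two, ← pow_mul, ← pow_succ', ← hk, pow_orderOf_eq_one]
  have h4 : Commute z x := by rw [hz]; exact (h2.pow_left k).inv_left
  rw [h4.eq, mul_inv_cancel_right] at h
  have h5 : x * x = 1 := mul_eq_one_iff_eq_inv.2 h
  obtain ⟨j, hj⟩ : Odd (orderOf x) := hK.of_dvd_nat (orderOf_dvd_natCard x)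
  have := pow_orderOf_eq_one x
  rwa [hj, pow_succ, pow_mul, pow_two, h5, one_pow, one_mul] at this

/-- The four-group inequality. -/
theorem card_fix_mul_le {K : Type*} [Group K] [Finite K] (hK : Odd (Nat.card K)) (α β : K ≃* K)
    (hα : ∀ x, α (α x) = x) (hβ : ∀ x, β (β x) = x) (hαβ : ∀ x, α (β x) = β (α x)) :
    Nat.card {x : K // α x = x} * Nat.card {x : K // β x = x} * Nat.card {x : K // α (β x) = x} ≤
      Nat.card K * (Nat.card {x : K // α x = x ∧ β x = x} * Nat.card {x : K // α x = x ∧ β x = x}) := by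
  classical
  let T := ({x : K // α x = x} × {x : K // β x = x}) × {x : K // α (β x) = x}
  let f : T → K := fun x => x.1.1.1 * x.1.2.1 * x.2.1
  haveI : Nonempty T := ⟨((⟨1, map_one α⟩, ⟨1, map_one β⟩), ⟨1, by rw [map_one, map_one]⟩)⟩
  let r : K → T := Function.invFun f
  have hr : ∀ x, f (r (f x)) = f x := fun x => Function.invFun_eq ⟨x, rfl⟩
  have key : ∀ x y : T, f x = f y →
      (α (y.1.1.1⁻¹ * x.1.1.1) = y.1.1.1⁻¹ * x.1.1.1 ∧ β (y.1.1.1⁻¹ * x.1.1.1) = y.1.1.1⁻¹ * x.1.1.1) ∧
      (α (y.2.1 * x.2.1⁻¹) = y.2.1 * x.2.1⁻¹ ∧ β (y.2.1 * x.2.1⁻¹) = y.2.1 * x.2.1⁻¹) := by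
    intro x y h
    simp only [f] at h
    set A := y.1.1.1⁻¹ * x.1.1.1 with hA
    set B := x.1.2.1 with hB
    set D := y.1.2.1 with hD
    set C := y.2.1 * x.2.1⁻¹ with hC
    have hAa : α A = A := by rw [hA, map_mul, map_inv, y.1.1.2, x.1.1.2]
    have hBb : β B = B := x.1.2.2
    have hDb : β D = D := y.1.2.2
    have hCc : α C = β C := by
      have : α (β C) = C := by
        rw [hC, map_mul, map_inv, map_mul, map_inv, x.2.2, y.2.2]
      conv_lhs => rw [← this]
      rw [hα]
    have e1 : A * B = D * C := by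
      rw [hA, hC, ← mul_assoc D, eq_mul_inv_iff_mul_eq, mul_assoc, mul_assoc,
        inv_mul_eq_iff_eq_mul, ← mul_assoc, h, ← mul_assoc]
    clear_value A B D C
    have eu : A * α B = α D * β C := by
      rw [← hCc, ← map_mul, ← e1, map_mul, hAa]
    have ev : β A * B = D * β C := by
      have := congrArg β e1
      rwa [map_mul, map_mul, hBb, hDb] at this
    have euv : β A * α B = α D * C := by
      have h1 := congrArg β eu
      rw [map_mul, map_mul, ← hαβ, ← hαβ, hBb, hDb, hβ] at h1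
      exact h1
    set X := (β C)⁻¹ * C with hX
    have f1 : (β A)⁻¹ * A = B * X * B⁻¹ := by
      rw [eq_mul_inv_iff_mul_eq, mul_assoc, e1, inv_mul_eq_iff_eq_mul,
        show β A * (B * X) = β A * B * X by group, ev, hX]
      group
    have f2 : (β A)⁻¹ * A = α B * X⁻¹ * (α B)⁻¹ := by
      rw [eq_mul_inv_iff_mul_eq, mul_assoc, eu, inv_mul_eq_iff_eq_mul,
        show β A * (α B * X⁻¹) = β A * α B * X⁻¹ by group, euv, hX]
      group
    have hX1 : X = 1 := eq_one_of_conj_inv' hK (z := (α B)⁻¹ * B) (by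
      calc (α B)⁻¹ * B * X * ((α B)⁻¹ * B)⁻¹ = (α B)⁻¹ * (B * X * B⁻¹) * α B := by group
        _ = X⁻¹ := by rw [← f1, f2]; group)
    have hCb : β C = C := inv_mul_eq_one.1 hX1
    have hAb : β A = A := inv_mul_eq_one.1 (f1.trans (by rw [hX1]; group))
    exact ⟨⟨hAa, hAb⟩, by rw [hCc, hCb], hCb⟩
  rw [← Nat.card_prod, ← Nat.card_prod, ← Nat.card_prod, ← Nat.card_prod]
  refine Nat.card_le_card_of_injective (fun x => (f x,
    ((⟨_, (key x (r (f x)) (hr x).symm).1⟩ : {x : K // α x = x ∧ β x = x}),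
      (⟨_, (key x (r (f x)) (hr x).symm).2⟩ : {x : K // α x = x ∧ β x = x})))) ?_
  intro x y h
  simp only [Prod.mk.injEq, Subtype.mk.injEq] at h
  obtain ⟨h, h1, h2⟩ := h
  rw [h] at h1 h2
  have e1 : x.1.1 = y.1.1 := Subtype.ext (mul_left_cancel h1)
  have e3 : x.2 = y.2 := Subtype.ext (inv_injective (mul_left_cancel h2))
  simp only [f, e1, e3] at h
  exact Prod.ext (Prod.ext e1 (Subtype.ext (mul_left_cancel (mul_right_cancel h)))) e3

/-- Conjugation on a normalised subgroup. -/
def conjOn (K : Subgroup G) (a : G) (ha : a ∈ normalizer (K : Set G)) : K ≃* K where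
  toFun x := ⟨a * x * a⁻¹, (mem_normalizer_iff.1 ha x).1 x.2⟩
  invFun x := ⟨a⁻¹ * x * a, (mem_normalizer_iff.1 ha _).2 (by simpa [mul_assoc] using x.2)⟩
  left_inv x := Subtype.ext (by simp [mul_assoc])
  right_inv x := Subtype.ext (by simp [mul_assoc])
  map_mul' x y := Subtype.ext (by simp [mul_assoc])

theorem card_fix_conjOn (K : Subgroup G) (a : G) (ha : a ∈ normalizer (K : Set G)) :
    Nat.card {x : K // conjOn K a ha x = x} = Nat.card (K ⊓ centralizer {a} : Subgroup G) := by
  refine Nat.card_congr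
    ⟨fun x => ⟨x.1, x.1.2, mem_centralizer_singleton_iff.2 ?_⟩,
      fun x => ⟨⟨x, x.2.1⟩, Subtype.ext ?_⟩, fun _ => rfl, fun _ => rfl⟩
  · exact (mul_inv_eq_iff_eq_mul.1 (congrArg Subtype.val x.2)).symm
  · exact mul_inv_eq_iff_eq_mul.2 (mem_centralizer_singleton_iff.1 x.2.2).symm

/-- The four-group inequality for two elements acting as commuting involutions. -/
theorem card_centralizer_mul_le [Finite G] {K : Subgroup G} (hK : Odd (Nat.card K)) {a b : G}
    (ha : a ∈ normalizer (K : Set G)) (hb : b ∈ normalizer (K : Set G))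
    (haa : ∀ x ∈ K, Commute (a * a) x) (hbb : ∀ x ∈ K, Commute (b * b) x)
    (hab : ∀ x ∈ K, (a * b) * x * (a * b)⁻¹ = (b * a) * x * (b * a)⁻¹) :
    Nat.card (K ⊓ centralizer {a} : Subgroup G) * Nat.card (K ⊓ centralizer {b} : Subgroup G) *
        Nat.card (K ⊓ centralizer {a * b} : Subgroup G) ≤
      Nat.card K * (Nat.card (K ⊓ centralizer {a} ⊓ centralizer {b} : Subgroup G) *
        Nat.card (K ⊓ centralizer {a} ⊓ centralizer {b} : Subgroup G)) := by
  have hn := mul_mem ha hb
  have hsq : ∀ {c : G} (hc : c ∈ normalizer (K : Set G)), (∀ x ∈ K, Commute (c * c) x) →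
      ∀ x : K, conjOn K c hc (conjOn K c hc x) = x := fun {c} hc h x => Subtype.ext (by
    show c * (c * x * c⁻¹) * c⁻¹ = x
    calc c * (c * x * c⁻¹) * c⁻¹ = c * c * x * (c * c)⁻¹ := by group
      _ = x := by rw [(h x x.2).eq, mul_inv_cancel_right])
  have e : ∀ x : K, conjOn K a ha (conjOn K b hb x) = conjOn K (a * b) hn x := fun x => Subtype.ext (by
    show a * (b * x * b⁻¹) * a⁻¹ = a * b * x * (a * b)⁻¹
    group)
  have h := card_fix_mul_le hK (conjOn K a ha) (conjOn K b hb) (hsq ha haa) (hsq hb hbb)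
    fun x => Subtype.ext (by
      show a * (b * x * b⁻¹) * a⁻¹ = b * (a * x * a⁻¹) * b⁻¹
      calc a * (b * x * b⁻¹) * a⁻¹ = (a * b) * x * (a * b)⁻¹ := by group
        _ = (b * a) * x * (b * a)⁻¹ := hab x x.2
        _ = _ := by group)
  have e2 : Nat.card {x : K // conjOn K a ha x = x ∧ conjOn K b hb x = x} =
      Nat.card (K ⊓ centralizer {a} ⊓ centralizer {b} : Subgroup G) := by
    refine Nat.card_congr
      ⟨fun x => ⟨x.1, ⟨x.1.2, mem_centralizer_singleton_iff.2 ?_⟩, mem_centralizer_singleton_iff.2 ?_⟩,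
        fun x => ⟨⟨x, x.2.1.1⟩, Subtype.ext ?_, Subtype.ext ?_⟩, fun _ => rfl, fun _ => rfl⟩
    · exact (mul_inv_eq_iff_eq_mul.1 (congrArg Subtype.val x.2.1)).symm
    · exact (mul_inv_eq_iff_eq_mul.1 (congrArg Subtype.val x.2.2)).symm
    · exact mul_inv_eq_iff_eq_mul.2 (mem_centralizer_singleton_iff.1 x.2.1.2).symm
    · exact mul_inv_eq_iff_eq_mul.2 (mem_centralizer_singleton_iff.1 x.2.2).symm
  simp only [e, card_fix_conjOn, e2] at h
  exact h

/-- The inequality for a 2-element and an involution inverting it. -/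
theorem sq_mul_card_centralizer_le [Finite G] {W : Subgroup G} (hW : Odd (Nat.card W)) {k : ℕ}
    {N : Subgroup G} (hN : N ≤ normalizer (W : Set G))
    (hk : ∀ t : G, orderOf t = 2 → t ∈ N →
      Nat.card (W ⊓ centralizer {t} : Subgroup G) = k) :
    ∀ (m : ℕ) (x a : G), orderOf x = 2 ^ (m + 1) → x ∈ N → orderOf a = 2 →
      a ∈ N → a * x * a⁻¹ = x⁻¹ → a ≠ x →
      k * k * Nat.card (W ⊓ centralizer {x} : Subgroup G) ≤
        Nat.card W * (Nat.card (W ⊓ centralizer {x} ⊓ centralizer {a} : Subgroup G) *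
          Nat.card (W ⊓ centralizer {x} ⊓ centralizer {a} : Subgroup G)) := by
  intro m
  induction m with
  | zero =>
    intro x a hx hxW ha haW hax hne
    rw [zero_add, pow_one] at hx
    have hxx : x * x = 1 := by rw [← pow_two, ← hx, pow_orderOf_eq_one]
    have haa : a * a = 1 := by rw [← pow_two, ← ha, pow_orderOf_eq_one]
    have hcomm : x * a = a * x := by
      rw [inv_eq_of_mul_eq_one_right hxx] at hax
      exact (mul_inv_eq_iff_eq_mul.1 hax).symm
    have hab2 : orderOf (x * a) = 2 := by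
      refine orderOf_eq_prime ?_ fun h => hne ?_
      · rw [pow_two, show x * a * (x * a) = x * (a * x) * a by group, ← hcomm,
          show x * (x * a) * a = (x * x) * (a * a) by group, hxx, haa, one_mul]
      · rw [← inv_eq_of_mul_eq_one_right h, inv_eq_of_mul_eq_one_right hxx]
    have h := card_centralizer_mul_le hW (hN hxW) (hN haW)
      (fun y _ => by rw [hxx]; exact Commute.one_left y)
      (fun y _ => by rw [haa]; exact Commute.one_left y) (fun y _ => by rw [hcomm])
    rw [hk x hx hxW, hk a ha haW, hk _ hab2 (mul_mem hxW haW)] at h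
    rw [hk x hx hxW]
    exact h
  | succ m ih =>
    intro x a hx hxW ha haW hax hne
    have haa : a * a = 1 := by rw [← pow_two, ← ha, pow_orderOf_eq_one]
    have hnc : x ^ 2 ≠ 1 := fun h => by
      have := Nat.le_of_dvd two_pos (orderOf_dvd_of_pow_eq_one h)
      rw [hx] at this
      have h4 : 2 ^ 2 ≤ 2 ^ (m + 1 + 1) := Nat.pow_le_pow_right two_pos (by omega)
      omega
    have hy : orderOf (x ^ 2) = 2 ^ (m + 1) := by
      rw [orderOf_pow_of_dvd two_ne_zero (hx ▸ dvd_pow_self 2 (by omega)), hx, pow_succ,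
        Nat.mul_div_cancel _ two_pos]
    have hay : a * x ^ 2 * a⁻¹ = (x ^ 2)⁻¹ := by rw [← conj_pow, hax, inv_pow]
    have hxa' : x * a * (x * a)⁻¹ = 1 := mul_inv_cancel _
    have hax' : a * x = x⁻¹ * a := mul_inv_eq_iff_eq_mul.1 hax
    have hxa : orderOf (x * a) = 2 := by
      refine orderOf_eq_prime ?_ fun h => hne ?_
      · rw [pow_two, show x * a * (x * a) = x * (a * x) * a by group, hax',
          show x * (x⁻¹ * a) * a = a * a by group, haa]
      · rw [← inv_eq_of_mul_eq_one_left h, inv_eq_of_mul_eq_one_right haa]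
    have hbW : x * a ∈ N := mul_mem hxW haW
    have hby : x * a * x ^ 2 * (x * a)⁻¹ = (x ^ 2)⁻¹ := by
      calc x * a * x ^ 2 * (x * a)⁻¹ = x * (a * x ^ 2 * a⁻¹) * x⁻¹ := by group
        _ = (x ^ 2)⁻¹ := by rw [hay]; group
    have hna : a ≠ x ^ 2 := fun h => hnc (by
      have hc : a * x * a⁻¹ = x := by rw [h]; group
      rw [hc] at hax
      rw [pow_two]; exact mul_eq_one_iff_eq_inv.2 hax)
    have hnb : x * a ≠ x ^ 2 := fun h => hne (mul_left_cancel (h.trans (pow_two x)))
    have ia := ih (x ^ 2) a hy (pow_mem hxW 2) ha haW hay hna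
    have ib := ih (x ^ 2) (x * a) hy (pow_mem hxW 2) hxa hbW hby hnb
    set K : Subgroup G := W ⊓ centralizer {x ^ 2} with hKdef
    have hKn : ∀ g : G, g ∈ normalizer (W : Set G) →
        (g * x ^ 2 * g⁻¹ = x ^ 2 ∨ g * x ^ 2 * g⁻¹ = (x ^ 2)⁻¹) → g ∈ normalizer (K : Set G) := by
      intro g hgW hg
      rw [mem_normalizer_iff]
      intro y
      simp only [hKdef, mem_inf, mem_centralizer_singleton_iff, SetLike.mem_coe]
      refine and_congr ((mem_normalizer_iff.1 hgW) y) ?_
      change Commute y (x ^ 2) ↔ Commute (g * y * g⁻¹) (x ^ 2)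
      rw [← Commute.conj_iff g]
      rcases hg with e | e <;> rw [e]
      exact Commute.inv_right_iff
    have hxK : x ∈ normalizer (K : Set G) := hKn x (hN hxW) (Or.inl (by group))
    have haK : a ∈ normalizer (K : Set G) := hKn a (hN haW) (Or.inr hay)
    have hsq : ∀ y ∈ K, Commute (x * x) y := fun y hy => by
      rw [← pow_two]; exact (mem_centralizer_singleton_iff.1 hy.2).symm
    have h := card_centralizer_mul_le (hW.of_dvd_nat (card_dvd_of_le inf_le_left)) hxK haK hsq
      (fun y _ => by rw [haa]; exact Commute.one_left y) (fun y hy => by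
        have h2 := hsq y hy
        rw [hax']
        calc x * a * y * (x * a)⁻¹ = (x * x) * ((x⁻¹ * a) * y * (x⁻¹ * a)⁻¹) * (x * x)⁻¹ := by group
          _ = (x⁻¹ * a) * y * (x⁻¹ * a)⁻¹ := by
            have hm : (x⁻¹ * a) * y * (x⁻¹ * a)⁻¹ ∈ K :=
              (mem_normalizer_iff.1 (mul_mem (inv_mem hxK) haK) y).1 hy
            rw [(hsq _ hm).eq, mul_inv_cancel_right])
    have hle : centralizer ({x} : Set G) ≤ centralizer {x ^ 2} := fun y hy =>
      mem_centralizer_singleton_iff.2
        ((Commute.pow_right (mem_centralizer_singleton_iff.1 hy) 2).eq)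
    have e1 : K ⊓ centralizer {x} = W ⊓ centralizer {x} := by
      rw [hKdef, inf_assoc, inf_eq_right.2 hle]
    rw [e1] at h
    set kx := Nat.card (W ⊓ centralizer {x} : Subgroup G)
    set ca := Nat.card (K ⊓ centralizer {a} : Subgroup G)
    set cb := Nat.card (K ⊓ centralizer {x * a} : Subgroup G)
    set c := Nat.card (W ⊓ centralizer {x} ⊓ centralizer {a} : Subgroup G)
    set q := Nat.card K
    -- `k² q ≤ |W| ca cb`
    have hm : k * k * q ≤ Nat.card W * (ca * cb) := by
      have := Nat.mul_le_mul ia ib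
      rw [show k * k * q * (k * k * q) = (k * k * q) ^ 2 by ring,
        show Nat.card W * (ca * ca) * (Nat.card W * (cb * cb)) = (Nat.card W * (ca * cb)) ^ 2 by
          ring] at this
      exact (Nat.pow_le_pow_iff_left two_ne_zero).1 this
    refine Nat.le_of_mul_le_mul_right ?_ (show 0 < q from Nat.card_pos)
    calc k * k * kx * q = k * k * q * kx := by ring
      _ ≤ Nat.card W * (ca * cb) * kx := Nat.mul_le_mul_right _ hm
      _ = Nat.card W * (kx * ca * cb) := by ring
      _ ≤ Nat.card W * (q * (c * c)) := Nat.mul_le_mul_left _ h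
      _ = Nat.card W * (c * c) * q := by ring

end Cfsg.Agent.TwoNilCent
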