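import Cfsg.Agent.Lib.TwoNilCent.Counting
import Cfsg.Agent.Lib.Coprime.Basic
import Cfsg.Agent.Lib.Transfer.Fusion

/-!
# Orbits of `N` on the cosets, and involutions in 2-subgroups
-/

set_option autoImplicit false
set_option linter.style.haveILetI false
set_option linter.unusedSectionVars false

open Subgroup Cfsg
open Cfsg.Agent.Involution
open scoped Classical Pointwise

namespace Cfsg.Agent.TwoNilCent

universe u

variable {G : Type u} [Group G]

/-- The stabiliser in `N` of a coset. -/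
abbrev stab (N : Subgroup G) (x : G ⧸ N) : Subgroup G := N ⊓ MulAction.stabilizer G x

theorem mem_stab {N : Subgroup G} {x : G ⧸ N} {h : G} : h ∈ stab N x ↔ h ∈ N ∧ h • x = x := by
  rw [mem_inf, MulAction.mem_stabilizer_iff]

theorem smul_base_eq_iff {N : Subgroup G} {h : G} :
    h • ((1 : G) : G ⧸ N) = ((1 : G) : G ⧸ N) ↔ h ∈ N := by
  rw [StrongEmb.smul_one_eq_iff, inv_one, one_mul]

theorem smul_coset_eq_iff {N : Subgroup G} {h g : G} :
    h • (g : G ⧸ N) = (g : G ⧸ N) ↔ g⁻¹ * h * g ∈ N := by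
  rw [MulAction.Quotient.smul_coe, smul_eq_mul, eq_comm, QuotientGroup.eq, ← mul_assoc]

namespace Data

variable {N W : Subgroup G} (D : Data N W) [Fintype G]
include D

theorem odd_stab {x : G ⧸ N} (hx : x ≠ ((1 : G) : G ⧸ N)) : Odd (Nat.card (stab N x)) := by
  induction x using QuotientGroup.induction_on with
  | _ g =>
    have hg : g ∉ N := fun h => hx (QuotientGroup.eq.2 (by rw [mul_one]; exact inv_mem h))
    refine (D.se.2.2 g hg).of_dvd_nat (card_dvd_of_le fun h hh => ?_)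
    rw [mem_stab, smul_coset_eq_iff] at hh
    exact ⟨hh.1, g⁻¹ * h * g, hh.2, show g * (g⁻¹ * h * g) * g⁻¹ = h by group⟩

theorem odd_e (P : Sylow 2 G) {e : ℕ}
    (hN : Nat.card N = Nat.card W * Nat.card (P : Subgroup G) * e) :
    Odd (Nat.card W * e) := by
  haveI : Fact (Nat.Prime 2) := ⟨Nat.prime_two⟩
  refine (Nat.odd_iff.2 (Nat.two_dvd_ne_zero.1 P.not_dvd_index)).of_dvd_nat ?_
  refine Nat.dvd_of_mul_dvd_mul_left (Nat.card_pos (α := (P : Subgroup G))) ?_
  rw [card_mul_index, show Nat.card (P : Subgroup G) * (Nat.card W * e) = Nat.card N by rw [hN]; ring]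
  exact Subgroup.card_subgroup_dvd_card _

/-- An odd subgroup of `N` has order dividing `|W| e`. -/
theorem card_dvd_odd (P : Sylow 2 G) {e : ℕ}
    (hN : Nat.card N = Nat.card W * Nat.card (P : Subgroup G) * e) {H : Subgroup G} (hH : H ≤ N)
    (hodd : Odd (Nat.card H)) : Nat.card H ∣ Nat.card W * e := by
  have h1 : Nat.card H ∣ Nat.card (P : Subgroup G) * (Nat.card W * e) := by
    rw [show Nat.card (P : Subgroup G) * (Nat.card W * e) = Nat.card N by rw [hN]; ring]
    exact card_dvd_of_le hH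
  obtain ⟨j, hj⟩ := IsPGroup.iff_card.1 P.2
  refine Nat.Coprime.dvd_of_dvd_mul_left ?_ h1
  rw [show Nat.card (P : Subgroup G) = 2 ^ j from hj]
  exact ((Nat.coprime_two_right).2 hodd).pow_right _

/-- The orbit of `N` on a coset other than `N`. -/
theorem orbit_data (P : Sylow 2 G) {e : ℕ}
    (hN : Nat.card N = Nat.card W * Nat.card (P : Subgroup G) * e) {x : G ⧸ N}
    (hx : x ≠ ((1 : G) : G ⧸ N)) :
    ∃ j, Odd j ∧ (MulAction.orbit N x).ncard = Nat.card (P : Subgroup G) * j ∧
      Nat.card (stab N x) * j = Nat.card W * e ∧ (stab N x).relIndex W ∣ j ∧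
      Nat.card (stab N x ⊔ W : Subgroup G) = (stab N x).relIndex W * Nat.card (stab N x) := by
  have hodd := D.odd_stab hx
  obtain ⟨j, hj⟩ := D.card_dvd_odd P hN inf_le_left hodd
  have hjodd : Odd j := (D.odd_e P hN).of_dvd_nat (hj ▸ dvd_mul_left _ _)
  have horb : (MulAction.orbit N x).ncard = Nat.card (P : Subgroup G) * j := by
    have h2 : (stab N x).subgroupOf N = MulAction.stabilizer N x := by
      ext h
      rw [mem_subgroupOf, mem_stab, MulAction.mem_stabilizer_iff]
      exact and_iff_right h.2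
    have h1 := card_mul_index ((stab N x).subgroupOf N)
    rw [Nat.card_congr (subgroupOfEquivOfLe (inf_le_left : stab N x ≤ N)).toEquiv] at h1
    rw [← MulAction.index_stabilizer (G := N) x, ← h2]
    refine Nat.eq_of_mul_eq_mul_left (Nat.card_pos (α := stab N x)) ?_
    rw [h1, hN, show Nat.card W * Nat.card (P : Subgroup G) * e =
      Nat.card (P : Subgroup G) * (Nat.card W * e) by ring, hj]
    ring
  have hle : stab N x ≤ normalizer (W : Set G) := inf_le_left.trans D.norm
  have hsup : Nat.card (stab N x ⊔ W : Subgroup G) =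
      (stab N x).relIndex W * Nat.card (stab N x) := by
    have h1 := card_mul_index (W.subgroupOf (stab N x ⊔ W))
    have h2 := card_mul_index (W.subgroupOf (stab N x))
    have h4 := card_mul_index ((stab N x).subgroupOf W)
    rw [Nat.card_congr (subgroupOfEquivOfLe (le_sup_right : W ≤ stab N x ⊔ W)).toEquiv,
      show (W.subgroupOf (stab N x ⊔ W)).index = W.relIndex (stab N x) from
        Coprime.relIndex_sup_right_of_le_normalizer hle] at h1
    have hc : Nat.card (W.subgroupOf (stab N x)) = Nat.card ((stab N x).subgroupOf W) := by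
      rw [← inf_subgroupOf_right W (stab N x), ← inf_subgroupOf_right (stab N x) W,
        Nat.card_congr (subgroupOfEquivOfLe (inf_le_right : W ⊓ stab N x ≤ stab N x)).toEquiv,
        Nat.card_congr (subgroupOfEquivOfLe (inf_le_right : stab N x ⊓ W ≤ W)).toEquiv, inf_comm]
    refine Nat.eq_of_mul_eq_mul_left (Nat.card_pos (α := (stab N x).subgroupOf W)) ?_
    calc Nat.card ((stab N x).subgroupOf W) * Nat.card (stab N x ⊔ W : Subgroup G)
        = Nat.card W * (Nat.card (W.subgroupOf (stab N x)) * W.relIndex (stab N x)) := by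
          rw [← h1, hc]; ring
      _ = Nat.card W * Nat.card (stab N x) := congrArg _ h2
      _ = Nat.card ((stab N x).subgroupOf W) *
          (((stab N x).subgroupOf W).index * Nat.card (stab N x)) := by rw [← h4]; ring
      _ = _ := rfl
  refine ⟨j, hjodd, horb, hj.symm, ?_, hsup⟩
  have hHodd : Odd (Nat.card (stab N x ⊔ W : Subgroup G)) := by
    rw [hsup]
    exact (D.odd.of_dvd_nat (Dvd.intro_left _ (card_mul_index ((stab N x).subgroupOf W)))).mul hodd
  have := D.card_dvd_odd P hN (sup_le inf_le_left D.le) hHodd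
  rw [hsup, hj, mul_comm (Nat.card (stab N x)) j] at this
  exact Nat.dvd_of_mul_dvd_mul_right Nat.card_pos this

/-- A 2-group has at most as many involutions as `P`. -/
theorem card_invol_le (P : Sylow 2 G) {R : Subgroup G} (hR : IsPGroup 2 R) :
    Nat.card {a : G // a ∈ R ∧ orderOf a = 2} ≤
      Nat.card {a : G // a ∈ (P : Subgroup G) ∧ orderOf a = 2} := by
  haveI : Fact (Nat.Prime 2) := ⟨Nat.prime_two⟩
  obtain ⟨Q, hQ⟩ := hR.exists_le_sylow
  obtain ⟨g, hg⟩ := MulAction.exists_smul_eq G Q P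
  refine Nat.card_le_card_of_injective (fun a => ⟨g * a.1 * g⁻¹, ?_, ?_⟩) ?_
  · rw [← hg, Sylow.coe_subgroup_smul, ← MulAut.conj_apply, ← MulAut.smul_def]
    exact Subgroup.smul_mem_pointwise_smul _ _ _ (hQ a.2.1)
  · rw [StrongEmb.orderOf_conj', a.2.2]
  · intro a b h
    exact Subtype.ext (mul_left_cancel (mul_right_cancel (congrArg Subtype.val h)))

/-- If the involutions of `N` commute mod `W`, involutions of a 2-subgroup commute. -/
theorem commute_of_mem (P : Sylow 2 G) (hPN : (P : Subgroup G) ≤ N)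
    (hcomm : ∀ s ∈ N, ∀ t ∈ N, orderOf s = 2 → orderOf t = 2 → s * t * s * t ∈ W)
    {R : Subgroup G} (hR : IsPGroup 2 R) {a b : G} (ha : a ∈ R) (hb : b ∈ R)
    (ha2 : orderOf a = 2) (hb2 : orderOf b = 2) : Commute a b := by
  haveI : Fact (Nat.Prime 2) := ⟨Nat.prime_two⟩
  obtain ⟨Q, hQ⟩ := hR.exists_le_sylow
  obtain ⟨g, hg⟩ := MulAction.exists_smul_eq G Q P
  have hmem : ∀ y ∈ R, g * y * g⁻¹ ∈ (P : Subgroup G) := fun y hy => by
    rw [← hg, Sylow.coe_subgroup_smul, ← MulAut.conj_apply, ← MulAut.smul_def]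
    exact Subgroup.smul_mem_pointwise_smul _ _ _ (hQ hy)
  have ha' := hmem a ha
  have hb' := hmem b hb
  have h1 := D.eq_one_of_mem_P P.2
    (hcomm _ (hPN ha') _ (hPN hb') (by rw [StrongEmb.orderOf_conj', ha2])
      (by rw [StrongEmb.orderOf_conj', hb2]))
    (mul_mem (mul_mem (mul_mem ha' hb') ha') hb')
  have h2 : g * (a * b * (a * b)) * g⁻¹ = 1 := by rw [← h1]; group
  have h3 : a * b * (a * b) = 1 := by
    have := congrArg (fun y => g⁻¹ * y * g) h2
    simpa [mul_assoc] using this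
  show a * b = b * a
  rw [← inv_eq_of_mul_eq_one_right h3, mul_inv_rev, StrongEmb.inv_eq_of_orderOf ha2,
    StrongEmb.inv_eq_of_orderOf hb2]

/-- Odd subgroups of `N` normalised by an involution of `N` lie in `W`. -/
theorem le_of_normalized
    (hcomm : ∀ s ∈ N, ∀ t ∈ N, orderOf s = 2 → orderOf t = 2 → s * t * s * t ∈ W)
    {X : Subgroup G} (hX : X ≤ N) (hodd : Odd (Nat.card X)) {t : G} (ht : t ∈ N)
    (ht2 : orderOf t = 2) (hnorm : t ∈ normalizer (X : Set G)) : X ≤ W := by
  intro x hx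
  have htt := StrongEmb.mul_self_of_orderOf ht2
  have hti := StrongEmb.inv_eq_of_orderOf ht2
  set c := x * t * x⁻¹ * t with hc
  have hcX : c ∈ X := by
    rw [hc, show x * t * x⁻¹ * t = x * (t * x⁻¹ * t) by group]
    refine mul_mem hx ?_
    have := (mem_normalizer_iff.1 hnorm x⁻¹).1 (inv_mem hx)
    rwa [hti] at this
  have hcc : c * c ∈ W :=
    have h := hcomm (x * t * x⁻¹) (mul_mem (mul_mem (hX hx) ht) (inv_mem (hX hx))) t ht
      (by rw [StrongEmb.orderOf_conj', ht2]) ht2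
    by rw [hc, show x * t * x⁻¹ * t * (x * t * x⁻¹ * t) = x * t * x⁻¹ * t * (x * t * x⁻¹) * t by group]
       exact h
  have hcW : c ∈ W := by
    obtain ⟨k, hk⟩ : Odd (orderOf c) := hodd.of_dvd_nat (X.orderOf_dvd_natCard hcX)
    have : c = ((c * c) ^ k)⁻¹ := by
      refine eq_inv_of_mul_eq_one_left ?_
      rw [← pow_two, ← pow_mul, ← pow_succ', ← hk, pow_orderOf_eq_one]
    rw [this]; exact inv_mem (pow_mem hcc k)
  obtain ⟨d, hd, hdx⟩ := D.exists_mem_cent ht ht2 hcW
  obtain ⟨a, b, hb, hab⟩ : ∃ a b, ¬ 2 ∣ b ∧ orderOf (d * x) = 2 ^ a * b :=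
    Nat.exists_eq_pow_mul_and_not_dvd (orderOf_pos _).ne' 2 (by norm_num)
  -- `(d x) ^ (2 ^ a)` is in `W`, and `x` is congruent to `d x`
  have h1 : (d * x) ^ 2 ^ a ∈ W := by
    refine D.core t ht ht2 _ (hdx.pow_left _) ?_
    rw [orderOf_pow_of_dvd (pow_ne_zero _ two_ne_zero) (hab ▸ dvd_mul_right _ _), hab,
      Nat.mul_div_cancel_left _ (by positivity)]
    exact Nat.odd_iff.2 (Nat.two_dvd_ne_zero.1 hb)
  haveI hn : (W.subgroupOf N).Normal := ⟨fun y hy g => by
    rw [mem_subgroupOf] at hy ⊢; exact D.conj_mem_W g.2 hy⟩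
  let x' : N := ⟨x, hX hx⟩
  let d' : N := ⟨d, D.le hd⟩
  have h2 : (QuotientGroup.mk x' : N ⧸ W.subgroupOf N) ^ 2 ^ a = 1 := by
    have e : (QuotientGroup.mk x' : N ⧸ W.subgroupOf N) = QuotientGroup.mk (d' * x') := by
      rw [QuotientGroup.mk_mul, (QuotientGroup.eq_one_iff d').2 hd, one_mul]
    rw [e, ← QuotientGroup.mk_pow, QuotientGroup.eq_one_iff, mem_subgroupOf]
    exact h1
  have h3 : (QuotientGroup.mk x' : N ⧸ W.subgroupOf N) ^ orderOf x = 1 := by
    rw [← QuotientGroup.mk_pow, QuotientGroup.eq_one_iff, mem_subgroupOf]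
    show x ^ orderOf x ∈ W
    rw [pow_orderOf_eq_one]; exact one_mem W
  have h4 : (QuotientGroup.mk x' : N ⧸ W.subgroupOf N) = 1 := by
    have h5 := pow_gcd_eq_one.2 ⟨h2, h3⟩
    rwa [Nat.Coprime.gcd_eq_one (((Nat.coprime_two_left).2
      (hodd.of_dvd_nat (X.orderOf_dvd_natCard hx))).pow_left _), pow_one] at h5
  exact (QuotientGroup.eq_one_iff x').1 h4

/-- An involution fixes exactly one coset. -/
theorem fixes_unique {t : G} (ht : orderOf t = 2) :
    ∃ x : G ⧸ N, t • x = x ∧ ∀ y : G ⧸ N, t • y = y → y = x := by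
  obtain ⟨s, hs, hs2⟩ := StrongEmb.exists_involution D.se
  obtain ⟨g, hg⟩ := isConj_iff.1 (StrongEmb.isConj_involutions D.se hs2 ht)
  refine ⟨(g : G ⧸ N), smul_coset_eq_iff.2 (by rw [← hg]; simpa [mul_assoc] using hs), fun y hy => ?_⟩
  induction y using QuotientGroup.induction_on with
  | _ h =>
    refine QuotientGroup.eq.2 ?_
    rw [show h⁻¹ * g = (g⁻¹ * h)⁻¹ by group]
    refine inv_mem (StrongEmb.mem_of_conj_mem D.se (smul_coset_eq_iff.1 hy) ?_ ?_)
    · rw [show h⁻¹ * t * h = h⁻¹ * t * h⁻¹⁻¹ by group, StrongEmb.orderOf_conj', ht]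
    · rw [show g⁻¹ * h * (h⁻¹ * t * h) * (g⁻¹ * h)⁻¹ = g⁻¹ * t * g by group, ← hg]
      simpa [mul_assoc] using hs

end Data

end Cfsg.Agent.TwoNilCent
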