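import Cfsg.Agent.Lib.TwoNilCent.FourGroup
import Cfsg.Agent.Lib.Involution.StrongEmb
import Cfsg.Agent.Lib.PCore.Basic
import Cfsg.Prelude.Def_Local

/-!
# A strongly embedded subgroup with an odd normal subgroup containing the centraliser cores

`N` is strongly embedded, `W ≤ N` is odd, normalised by `N`, and contains every element of odd
order commuting with an involution of `N`.
-/

set_option autoImplicit false
set_option linter.style.haveILetI false
set_option linter.unusedSectionVars false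

open Subgroup
open Cfsg.Agent.Involution

namespace Cfsg.Agent.TwoNilCent

universe u

variable {G : Type u} [Group G]

/-- The configuration. -/
structure Data (N W : Subgroup G) : Prop where
  se : Cfsg.IsStronglyEmbedded N
  le : W ≤ N
  norm : N ≤ normalizer (W : Set G)
  odd : Odd (Nat.card W)
  core : ∀ t ∈ N, orderOf t = 2 → ∀ y : G, Commute y t → Odd (orderOf y) → y ∈ W
  four : ∃ a ∈ N, ∃ b ∈ N, orderOf a = 2 ∧ orderOf b = 2 ∧ Commute a b ∧ a ≠ b

/-- The fixed points of `x` in `W`. -/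
abbrev O (W : Subgroup G) (x : G) : Subgroup G := W ⊓ centralizer {x}

theorem mem_O {W : Subgroup G} {x y : G} : y ∈ O W x ↔ y ∈ W ∧ Commute y x := by
  rw [mem_inf, mem_centralizer_singleton_iff]; exact Iff.rfl

/-- A nontrivial 2-element has an involution among its powers. -/
theorem exists_involution_pow {x : G} {m : ℕ} (hx : orderOf x = 2 ^ (m + 1)) :
    orderOf (x ^ 2 ^ m) = 2 := by
  rw [orderOf_pow_of_dvd (by positivity) (hx ▸ pow_dvd_pow 2 (Nat.le_succ m)), hx, pow_succ,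
    Nat.mul_div_cancel_left _ (by positivity)]

namespace Data

variable {N W : Subgroup G} (D : Data N W)
include D

theorem conj_mem_W {g w : G} (hg : g ∈ N) (hw : w ∈ W) : g * w * g⁻¹ ∈ W :=
  (mem_normalizer_iff.1 (D.norm hg) w).1 hw

theorem mem_of_commute {t g : G} (ht : t ∈ N) (ht2 : orderOf t = 2) (hg : Commute g t) : g ∈ N :=
  StrongEmb.mem_of_commute D.se ht ht2 hg

theorem cent_le {x : G} {m : ℕ} (hx : x ∈ N) (hxm : orderOf x = 2 ^ (m + 1)) :
    centralizer ({x} : Set G) ≤ N := fun g hg =>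
  D.mem_of_commute (pow_mem hx (2 ^ m)) (exists_involution_pow hxm)
    ((show Commute g x from mem_centralizer_singleton_iff.1 hg).pow_right _)

theorem core' {x y : G} {m : ℕ} (hx : x ∈ N) (hxm : orderOf x = 2 ^ (m + 1)) (hy : Commute y x)
    (hyo : Odd (orderOf y)) : y ∈ W :=
  D.core _ (pow_mem hx (2 ^ m)) (exists_involution_pow hxm) y (hy.pow_right _) hyo

theorem conj_mem_O {x g y : G} (hg : g ∈ N) (hgx : Commute g x) (hy : y ∈ O W x) :
    g * y * g⁻¹ ∈ O W x := by
  rw [mem_O] at hy ⊢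
  exact ⟨D.conj_mem_W hg hy.1, (hgx.mul_left hy.2).mul_left hgx.inv_left⟩

variable [Finite G]

theorem odd_of_mem {w : G} (hw : w ∈ W) : Odd (orderOf w) :=
  D.odd.of_dvd_nat (W.orderOf_dvd_natCard hw)

theorem odd_O (x : G) : Odd (Nat.card (O W x)) :=
  D.odd.of_dvd_nat (card_dvd_of_le inf_le_left)

theorem eq_one_of_mem_of_two {w : G} (hw : w ∈ W) {j : ℕ} (hj : orderOf w = 2 ^ j) : w = 1 := by
  have h := D.odd_of_mem hw
  rw [hj] at h
  rcases j with _ | j
  · rwa [pow_zero, orderOf_eq_one_iff] at hj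
  · exact absurd h (Nat.not_odd_iff_even.2 (by rw [pow_succ]; exact even_two.mul_left _))

theorem eq_one_of_mem_P {P : Subgroup G} (hP : IsPGroup 2 P) {w : G} (hw : w ∈ W) (hwP : w ∈ P) :
    w = 1 := by
  obtain ⟨j, hj⟩ := IsPGroup.iff_orderOf.1 hP ⟨w, hwP⟩
  rw [Subgroup.orderOf_mk] at hj
  exact D.eq_one_of_mem_of_two hw hj

/-- The centraliser of a nontrivial 2-element of `N` is its `W`-part by a 2-group. -/
theorem pPrimeCore_cent {x : G} {m : ℕ} (hx : x ∈ N) (hxm : orderOf x = 2 ^ (m + 1)) :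
    Cfsg.pPrimeCore 2 (centralizer ({x} : Set G)) = (O W x).subgroupOf (centralizer {x}) ∧
      ∃ j, ((O W x).subgroupOf (centralizer ({x} : Set G))).index = 2 ^ j := by
  haveI : Fact (Nat.Prime 2) := ⟨Nat.prime_two⟩
  set C := centralizer ({x} : Set G) with hC
  have hCN : C ≤ N := D.cent_le hx hxm
  haveI hn : ((O W x).subgroupOf C).Normal := ⟨fun y hy g => by
    rw [mem_subgroupOf] at hy ⊢
    exact D.conj_mem_O (hCN g.2) (mem_centralizer_singleton_iff.1 g.2) hy⟩
  have hodd : ∀ y : C, Odd (orderOf y) → y ∈ (O W x).subgroupOf C := fun y hy => by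
    rw [mem_subgroupOf, mem_O]
    have hyx : Commute (y : G) x := mem_centralizer_singleton_iff.1 y.2
    exact ⟨D.core' hx hxm hyx (by rwa [orderOf_coe]), hyx⟩
  constructor
  · refine le_antisymm (fun y hy => hodd y ?_) (PCore.le_pPrimeCore ?_)
    · exact (Nat.coprime_two_right.1 PCore.coprime_card_pPrimeCore).of_dvd_nat
        (Subgroup.orderOf_dvd_natCard _ hy)
    · rw [Nat.card_congr (subgroupOfEquivOfLe inf_le_right).toEquiv, Nat.coprime_two_right]
      exact D.odd_O x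
  · have hp : IsPGroup 2 (C ⧸ (O W x).subgroupOf C) := by
      intro q
      obtain ⟨y, rfl⟩ := QuotientGroup.mk_surjective q
      obtain ⟨a, b, hb, hab⟩ : ∃ a b, ¬ 2 ∣ b ∧ orderOf y = 2 ^ a * b :=
        Nat.exists_eq_pow_mul_and_not_dvd (orderOf_pos y).ne' 2 (by norm_num)
      refine ⟨a, ?_⟩
      rw [← QuotientGroup.mk_pow, QuotientGroup.eq_one_iff]
      refine hodd _ ?_
      rw [orderOf_pow_of_dvd (pow_ne_zero _ two_ne_zero) (hab ▸ dvd_mul_right _ _), hab,
        Nat.mul_div_cancel_left _ (by positivity)]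
      exact Nat.odd_iff.2 (Nat.two_dvd_ne_zero.1 hb)
    obtain ⟨j, hj⟩ := IsPGroup.iff_card.1 hp
    exact ⟨j, by rw [index_eq_card, hj]⟩

theorem card_cent {x : G} {m : ℕ} (hx : x ∈ N) (hxm : orderOf x = 2 ^ (m + 1)) :
    ∃ j, (O W x).relIndex (centralizer {x}) = 2 ^ j ∧
      Nat.card (centralizer ({x} : Set G)) = 2 ^ j * Nat.card (O W x) := by
  obtain ⟨-, j, hj⟩ := D.pPrimeCore_cent hx hxm
  refine ⟨j, hj, ?_⟩
  rw [← card_mul_index ((O W x).subgroupOf (centralizer {x})), hj, mul_comm,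
    Nat.card_congr (subgroupOfEquivOfLe inf_le_right).toEquiv]

theorem core_eq {x : G} {m : ℕ} (hx : x ∈ N) (hxm : orderOf x = 2 ^ (m + 1)) :
    Cfsg.centralizerPPrimeCore 2 x = O W x := by
  rw [Cfsg.centralizerPPrimeCore, (D.pPrimeCore_cent hx hxm).1,
    map_subgroupOf_eq_of_le inf_le_right]

/-- All involutions of `N` are conjugate in `N`. -/
theorem exists_conj {s t : G} (hs : s ∈ N) (hs2 : orderOf s = 2) (ht : t ∈ N) (ht2 : orderOf t = 2) :
    ∃ g ∈ N, g * s * g⁻¹ = t := by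
  obtain ⟨g, hg⟩ := isConj_iff.1 (StrongEmb.isConj_involutions D.se hs2 ht2)
  exact ⟨g, StrongEmb.mem_of_conj_eq D.se hs hs2 hg ht, hg⟩

theorem card_O_conj {g x : G} (hg : g ∈ N) :
    Nat.card (O W (g * x * g⁻¹)) = Nat.card (O W x) := by
  have h : (O W x).map (MulAut.conj g).toMonoidHom = O W (g * x * g⁻¹) := by
    ext y
    rw [mem_map_equiv, MulAut.conj_symm_apply, mem_O, mem_O]
    refine and_congr ⟨fun h => ?_, fun h => ?_⟩ ?_
    · have := D.conj_mem_W hg h
      simpa [mul_assoc] using this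
    · have := D.conj_mem_W (inv_mem hg) h
      simpa using this
    · rw [← Commute.conj_iff g]
      simp [mul_assoc]
  rw [← h, card_map_of_injective (MulEquiv.injective _)]

theorem card_O_eq {s t : G} (hs : s ∈ N) (hs2 : orderOf s = 2) (ht : t ∈ N) (ht2 : orderOf t = 2) :
    Nat.card (O W t) = Nat.card (O W s) := by
  obtain ⟨g, hg, rfl⟩ := D.exists_conj hs hs2 ht ht2
  exact D.card_O_conj hg

/-- A Sylow 2-subgroup in `N` with a central involution `u`. -/
theorem exists_sylow : ∃ (P : Sylow 2 G) (u : G), u ∈ (P : Subgroup G) ∧ orderOf u = 2 ∧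
    (P : Subgroup G) ≤ N ∧ ∀ p ∈ (P : Subgroup G), Commute p u := by
  haveI : Fact (Nat.Prime 2) := ⟨Nat.prime_two⟩
  obtain ⟨t, ht, ht2⟩ := StrongEmb.exists_involution D.se
  obtain ⟨P₀⟩ := (inferInstance : Nonempty (Sylow 2 G))
  have hd : 2 ∣ Nat.card G := ht2 ▸ orderOf_dvd_natCard t
  haveI : Nontrivial (P₀ : Subgroup G) :=
    (Subgroup.nontrivial_iff_ne_bot _).2 (P₀.ne_bot_of_dvd_card hd)
  haveI : Nontrivial (center (P₀ : Subgroup G)) := P₀.2.center_nontrivial
  obtain ⟨c, hc⟩ := exists_prime_orderOf_dvd_card' (G := center (P₀ : Subgroup G)) 2 (by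
    obtain ⟨j, hj⟩ := IsPGroup.iff_card.1 (P₀.2.to_subgroup (center (P₀ : Subgroup G)))
    have h1 : 1 < Nat.card (center (P₀ : Subgroup G)) := Finite.one_lt_card
    rcases j with _ | j
    · rw [hj, pow_zero] at h1; exact absurd h1 (lt_irrefl _)
    · rw [hj, pow_succ]; exact dvd_mul_left _ _)
  set u₀ : G := ((c : (P₀ : Subgroup G)) : G)
  have hu0 : orderOf u₀ = 2 := by rw [orderOf_coe, orderOf_coe, hc]
  obtain ⟨g, hg⟩ := isConj_iff.1 (StrongEmb.isConj_involutions D.se hu0 ht2)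
  have hmem : ∀ p ∈ ((g • P₀ : Sylow 2 G) : Subgroup G), Commute p t := by
    intro p hp
    rw [Sylow.coe_subgroup_smul, mem_pointwise_smul_iff_inv_smul_mem] at hp
    have h1 : Commute ((MulAut.conj g)⁻¹ p) u₀ :=
      congrArg Subtype.val (mem_center_iff.1 c.2 ⟨_, hp⟩)
    have h2 := h1.map (MulAut.conj g).toMonoidHom
    rw [MulEquiv.coe_toMonoidHom, MulAut.apply_inv_self, MulAut.conj_apply, hg] at h2
    exact h2
  refine ⟨g • P₀, t, ?_, ht2, fun p hp => D.mem_of_commute ht ht2 (hmem p hp), hmem⟩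
  rw [Sylow.coe_subgroup_smul, mem_pointwise_smul_iff_inv_smul_mem, ← hg, ← MulAut.conj_apply,
    MulAut.smul_def, MulAut.inv_apply_self]
  exact SetLike.coe_mem _

end Data

end Cfsg.Agent.TwoNilCent
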