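import Cfsg.Agent.Lib.TwoNilCent.Orbits
import Cfsg.Agent.Lib.ZStar.Assemble
import Cfsg.Agent.Lib.Coprime.Generation
import Mathlib.GroupTheory.IndexNormal

/-!
# The configuration is impossible when five conjugates of `W` generate

The order bound leaves `|G : N| ≤ 5 |P|`; the orbits of `N` on the cosets and the involutions
exchanging two points finish.
-/

set_option autoImplicit false
set_option linter.style.haveILetI false
set_option linter.unusedSectionVars false

open Subgroup Cfsg
open Cfsg.Agent.Involution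
open scoped Classical Pointwise

namespace Cfsg.Agent.TwoNilCent

universe u

variable {G : Type u} [Group G]

namespace Data

variable {N W : Subgroup G} (D : Data N W) [Fintype G]
include D

/-- The order bound, per coset. -/
theorem bound (P : Sylow 2 G) (hPN : (P : Subgroup G) ≤ N) {u : G} (huP : u ∈ (P : Subgroup G))
    (hu2 : orderOf u = 2) (hPu : ∀ p ∈ (P : Subgroup G), Commute p u) {e : ℕ}
    (hN : Nat.card N = Nat.card W * Nat.card (P : Subgroup G) * e) (g : Fin 5 → G)
    (hgen : ∀ T : Subgroup G, (∀ i, ∀ w ∈ W, g i * w * (g i)⁻¹ ∈ T) → T = ⊤) (c : G → ℕ) {C : ℕ}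
    (hc : ∀ (x : G) (R : Subgroup G), x ∈ (P : Subgroup G) → x ≠ 1 → IsPGroup 2 R → x ∈ R →
      Nat.card {a : G // a ∈ R ∧ orderOf a = 2 ∧ a * x * a⁻¹ = x⁻¹ ∧ a ≠ x} ≤ c x)
    (hC : ∑ x : {x : (P : Subgroup G) // x ≠ 1}, c (x : (P : Subgroup G)) ≤ C) :
    (Nat.card (P : Subgroup G) - 1) * (e * Nat.card (G ⧸ N)) ≤
      5 * Nat.card (P : Subgroup G) * C := by
  haveI : Fact (Nat.Prime 2) := ⟨Nat.prime_two⟩
  obtain ⟨M, hM⟩ := ZStar.exists_isPModular_two
  haveI := hM.2.1
  have h := (D.key hM P hPN huP hu2 hPu g hgen c hc).trans (Nat.mul_le_mul_left _ hC)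
  rw [← card_mul_index N, hN, index_eq_card] at h
  refine Nat.le_of_mul_le_mul_right ?_
    (Nat.mul_pos (Nat.card_pos (α := W)) (Nat.card_pos (α := (P : Subgroup G))))
  calc (Nat.card (P : Subgroup G) - 1) * (e * Nat.card (G ⧸ N)) *
        (Nat.card W * Nat.card (P : Subgroup G))
      = (Nat.card (P : Subgroup G) - 1) *
          (Nat.card W * Nat.card (P : Subgroup G) * e * Nat.card (G ⧸ N)) := by ring
    _ ≤ 5 * Nat.card (P : Subgroup G) ^ 2 * Nat.card W * C := h
    _ = _ := by ring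

theorem four_le_card (P : Sylow 2 G) : 4 ≤ Nat.card (P : Subgroup G) := by
  haveI : Fact (Nat.Prime 2) := ⟨Nat.prime_two⟩
  obtain ⟨a, -, b, -, ha2, hb2, hab, hne⟩ := D.four
  have hR : IsPGroup 2 (Subgroup.closure ({a, b} : Set G)) := by
    have h : ∀ y ∈ Subgroup.closure ({a, b} : Set G),
        y * y = 1 ∧ Commute y a ∧ Commute y b := by
      intro y hy
      induction hy using Subgroup.closure_induction with
      | mem y hy =>
        rcases hy with rfl | rfl
        · exact ⟨StrongEmb.mul_self_of_orderOf ha2, Commute.refl _, hab⟩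
        · exact ⟨StrongEmb.mul_self_of_orderOf hb2, hab.symm, Commute.refl _⟩
      | one => exact ⟨one_mul 1, Commute.one_left _, Commute.one_left _⟩
      | mul y z hy' hz' hy hz =>
        have hyz : Commute y z := by
          have : Subgroup.closure ({a, b} : Set G) ≤ centralizer {y} := (closure_le _).2 (by
            rintro w (rfl | rfl)
            · exact mem_centralizer_singleton_iff.2 hy.2.1.symm.eq
            · exact mem_centralizer_singleton_iff.2 hy.2.2.symm.eq)
          exact (mem_centralizer_singleton_iff.1 (this hz') : z * y = y * z).symm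
        exact ⟨by rw [show y * z * (y * z) = y * (z * y) * z by group, ← hyz.eq,
          show y * (y * z) * z = y * y * (z * z) by group, hy.1, hz.1, one_mul],
          hy.2.1.mul_left hz.2.1, hy.2.2.mul_left hz.2.2⟩
      | inv y _ hy =>
        exact ⟨by rw [← mul_inv_rev, hy.1, inv_one], hy.2.1.inv_left, hy.2.2.inv_left⟩
    exact fun y => ⟨1, Subtype.ext (by rw [pow_one, coe_pow, pow_two]; exact (h y y.2).1)⟩
  obtain ⟨Q, hQ⟩ := hR.exists_le_sylow
  have haQ : a ∈ (Q : Subgroup G) := hQ (subset_closure (Or.inl rfl))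
  have hbQ : b ∈ (Q : Subgroup G) := hQ (subset_closure (Or.inr rfl))
  have h3 : 3 ≤ Nat.card (Q : Subgroup G) := by
    let f : Fin 3 → (Q : Subgroup G) := ![1, ⟨a, haQ⟩, ⟨b, hbQ⟩]
    have hf : Function.Injective f := by
      have ha1 : a ≠ 1 := fun h => by rw [h, orderOf_one] at ha2; exact absurd ha2 (by decide)
      have hb1 : b ≠ 1 := fun h => by rw [h, orderOf_one] at hb2; exact absurd hb2 (by decide)
      intro i j h
      fin_cases i <;> fin_cases j <;>
        simp [f, Subtype.ext_iff, ha1, hb1, ha1.symm, hb1.symm, hne, hne.symm] at h ⊢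
    simpa using Nat.card_le_card_of_injective f hf
  obtain ⟨j, hj⟩ := IsPGroup.iff_card.1 Q.2
  rw [Sylow.card_eq_multiplicity P, ← Sylow.card_eq_multiplicity Q, hj]
  rw [hj] at h3
  have : 2 ≤ j := by
    by_contra hlt
    interval_cases j <;> omega
  exact (le_of_eq (by norm_num)).trans (Nat.pow_le_pow_right two_pos this)

theorem ncard_orbit_le {x : G ⧸ N} (hx : x ≠ ((1 : G) : G ⧸ N)) :
    (MulAction.orbit N x).ncard + 1 ≤ Nat.card (G ⧸ N) := by
  have h1 : ((1 : G) : G ⧸ N) ∉ MulAction.orbit N x := by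
    rintro ⟨h, hh⟩
    refine hx ?_
    have hh' : (h : G) • x = ((1 : G) : G ⧸ N) := hh
    calc x = (h : G)⁻¹ • ((h : G) • x) := (inv_smul_smul _ _).symm
      _ = _ := by rw [hh', smul_base_eq_iff]; exact inv_mem h.2
  rw [← Set.ncard_univ, ← Set.ncard_insert_of_notMem h1]
  exact Set.ncard_le_ncard (Set.subset_univ _)

theorem ncard_two_orbits_le {x y : G ⧸ N} (hx : x ≠ ((1 : G) : G ⧸ N))
    (hy : y ≠ ((1 : G) : G ⧸ N)) (hxy : y ∉ MulAction.orbit N x) :
    (MulAction.orbit N x).ncard + (MulAction.orbit N y).ncard + 1 ≤ Nat.card (G ⧸ N) := by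
  have hd : Disjoint (MulAction.orbit N x) (MulAction.orbit N y) := by
    rw [Set.disjoint_left]
    intro z hz hz'
    apply hxy
    rw [MulAction.orbit_eq_iff.2 hz |>.symm, MulAction.orbit_eq_iff.2 hz']
    exact MulAction.mem_orbit_self y
  have h1 : ∀ z : G ⧸ N, z ≠ ((1 : G) : G ⧸ N) →
      ((1 : G) : G ⧸ N) ∉ MulAction.orbit N z := by
    rintro z hz ⟨h, hh⟩
    refine hz ?_
    have hh' : (h : G) • z = ((1 : G) : G ⧸ N) := hh
    calc z = (h : G)⁻¹ • ((h : G) • z) := (inv_smul_smul _ _).symm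
      _ = _ := by rw [hh', smul_base_eq_iff]; exact inv_mem h.2
  rw [← Set.ncard_union_eq hd, ← Set.ncard_univ, ← Set.ncard_insert_of_notMem
    (by simp [h1 x hx, h1 y hy] : ((1 : G) : G ⧸ N) ∉ MulAction.orbit N x ∪ MulAction.orbit N y)]
  exact Set.ncard_le_ncard (Set.subset_univ _)

/-- `W` does not fix every coset. -/
theorem exists_moved (g : Fin 5 → G)
    (hgen : ∀ T : Subgroup G, (∀ i, ∀ w ∈ W, g i * w * (g i)⁻¹ ∈ T) → T = ⊤) :
    ∃ x : G ⧸ N, x ≠ ((1 : G) : G ⧸ N) ∧ (stab N x).relIndex W ≠ 1 := by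
  by_contra hall
  push Not at hall
  refine D.se.1 (hgen N fun i w hw => ?_)
  have hfix : w • (((g i)⁻¹ : G) : G ⧸ N) = (((g i)⁻¹ : G) : G ⧸ N) := by
    by_cases hx : (((g i)⁻¹ : G) : G ⧸ N) = ((1 : G) : G ⧸ N)
    · rw [hx, smul_base_eq_iff]; exact D.le hw
    · exact (mem_stab.1 (relIndex_eq_one.1 (hall _ hx) hw)).2
  rw [smul_coset_eq_iff, inv_inv] at hfix
  exact hfix

set_option maxHeartbeats 1600000 in
theorem false_of_generated (g : Fin 5 → G)
    (hgen : ∀ T : Subgroup G, (∀ i, ∀ w ∈ W, g i * w * (g i)⁻¹ ∈ T) → T = ⊤) : False := by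
  haveI : Fact (Nat.Prime 2) := ⟨Nat.prime_two⟩
  obtain ⟨P, u, huP, hu2, hPN, hPu⟩ := D.exists_sylow
  obtain ⟨e, hN, hcase⟩ := D.counting P hPN huP hu2 hPu
  set q := Nat.card (P : Subgroup G) with hq
  set i := Nat.card {a : G // a ∈ (P : Subgroup G) ∧ orderOf a = 2} with hi
  set n := Nat.card (G ⧸ N) with hn
  have hq4 : 4 ≤ q := D.four_le_card P
  have hi0 : 0 < i := by
    haveI : Nonempty {a : G // a ∈ (P : Subgroup G) ∧ orderOf a = 2} := ⟨⟨u, huP, hu2⟩⟩
    exact Nat.card_pos
  have hcardP : Fintype.card {x : (P : Subgroup G) // x ≠ 1} = q - 1 := by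
    rw [Fintype.card_subtype_compl, Fintype.card_subtype_eq, hq, Nat.card_eq_fintype_card]
  have hgenb : (q - 1) * (e * n) ≤ 5 * q * ((q - 1) * i) :=
    D.bound P hPN huP hu2 hPu hN g hgen (fun _ => i)
      (fun x R _ _ hR _ => le_trans (Nat.card_le_card_of_injective
        (fun a => (⟨a.1, a.2.1, a.2.2.1⟩ : {a : G // a ∈ R ∧ orderOf a = 2}))
        fun a b h => Subtype.ext (Subtype.mk.inj h)) (D.card_invol_le P hR))
      (by simp only [Finset.sum_const, Finset.card_univ, smul_eq_mul, hcardP]; exact le_rfl)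
  have hen : e * n ≤ 5 * q * i :=
    Nat.le_of_mul_le_mul_left (hgenb.trans (le_of_eq (by ring))) (show 0 < q - 1 by omega)
  obtain ⟨x, hx, hxW⟩ := D.exists_moved g hgen
  obtain ⟨j, hjodd, horb, hDj, hrj, hsup⟩ := D.orbit_data P hN hx
  rw [← hq] at horb
  have hjn : q * j + 1 ≤ n := horb ▸ D.ncard_orbit_le hx
  have hr : Odd ((stab N x).relIndex W) :=
    D.odd.of_dvd_nat (Dvd.intro_left _ (card_mul_index ((stab N x).subgroupOf W)))
  have hr3 : 3 ≤ (stab N x).relIndex W := by obtain ⟨c, hc⟩ := hr; omega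
  have hj3 : 3 ≤ j := hr3.trans (Nat.le_of_dvd hjodd.pos hrj)
  rcases hcase with ⟨rfl, hcomm⟩ | he
  swap
  · -- `e ≥ 2i`
    have h1 : 2 * i * (q * 3 + 1) ≤ 5 * q * i :=
      (Nat.mul_le_mul he (le_trans (Nat.succ_le_succ (Nat.mul_le_mul_left q hj3)) hjn)).trans hen
    have : 2 * (q * 3 + 1) ≤ 5 * q :=
      Nat.le_of_mul_le_mul_right (by linarith [h1]) hi0
    omega
  -- `e = i`
  have hn5 : n ≤ 5 * q := Nat.le_of_mul_le_mul_left (hen.trans (le_of_eq (mul_comm _ _))) hi0
  have hbound : (q - 1) * (i * n) ≤ 5 * q * (i * (i - 1)) := by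
    refine D.bound P hPN huP hu2 hPu hN g hgen (fun y => if orderOf y = 2 then i - 1 else 0)
      (fun y R _ _ hR hyR => ?_) ?_
    · -- an inverting involution makes `y` an involution
      have hyinv : ∀ a : G, a ∈ R → orderOf a = 2 → a * y * a⁻¹ = y⁻¹ → a ≠ y → orderOf y = 2 := by
        intro a haR ha2 hay hne
        have hai := StrongEmb.inv_eq_of_orderOf ha2
        have haa := StrongEmb.mul_self_of_orderOf ha2
        rw [hai] at hay
        have hya : orderOf (y * a) = 2 := by
          refine orderOf_eq_prime ?_ fun h => hne ?_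
          · rw [pow_two, show y * a * (y * a) = y * (a * y * a) by group, hay, mul_inv_cancel]
          · rw [eq_inv_of_mul_eq_one_left h, hai]
        have hc := D.commute_of_mem P hPN hcomm hR (mul_mem hyR haR) haR hya ha2
        have hy1 : y ≠ 1 := by
          rintro rfl
          exact absurd ‹(1 : G) ≠ 1› (fun h => h rfl)
        refine orderOf_eq_prime ?_ hy1
        have h1 : y * a * a = a * (y * a) := hc.eq
        rw [mul_assoc, haa, mul_one, ← mul_assoc, hay] at h1
        rw [pow_two]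
        exact mul_eq_one_iff_eq_inv.2 h1
      by_cases hy : orderOf y = 2
      · rw [if_pos hy]
        have hyA : (⟨y, hyR, hy⟩ : {a : G // a ∈ R ∧ orderOf a = 2}) ∈ (Set.univ : Set _) := trivial
        have h1 : Nat.card {a : {a : G // a ∈ R ∧ orderOf a = 2} // a ≠ ⟨y, hyR, hy⟩} =
            Nat.card {a : G // a ∈ R ∧ orderOf a = 2} - 1 := by
          rw [Nat.card_eq_fintype_card, Fintype.card_subtype_compl, Fintype.card_subtype_eq,
            Nat.card_eq_fintype_card]
        refine le_trans (Nat.card_le_card_of_injective (fun a =>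
          (⟨⟨a.1, a.2.1, a.2.2.1⟩, fun h => a.2.2.2.2 (congrArg Subtype.val h)⟩ :
            {a : {a : G // a ∈ R ∧ orderOf a = 2} // a ≠ ⟨y, hyR, hy⟩}))
          (fun a b h => Subtype.ext (congrArg (fun z => z.1.1) h))) ?_
        rw [h1]
        exact Nat.sub_le_sub_right (D.card_invol_le P hR) 1
      · rw [if_neg hy, Nat.le_zero, Nat.card_eq_zero]
        exact Or.inl ⟨fun a => hy (hyinv a.1 a.2.1 a.2.2.1 a.2.2.2.1 a.2.2.2.2)⟩
    · rw [Finset.sum_ite, Finset.sum_const_zero, add_zero, Finset.sum_const, smul_eq_mul]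
      refine Nat.mul_le_mul_right _ ?_
      rw [hi, ← Fintype.card_subtype, ← Nat.card_eq_fintype_card]
      exact Nat.card_le_card_of_injective
        (fun y => ⟨((y.1.1 : (P : Subgroup G)) : G), SetLike.coe_mem _, y.2⟩)
        fun a b h => Subtype.ext (Subtype.ext (Subtype.ext (Subtype.mk.inj h)))
  have hodd : Odd i := Odd.of_dvd_nat (D.odd_e P hN) (dvd_mul_left _ _)
  have hi3 : 3 ≤ i := by
    by_contra hlt
    obtain ⟨c, hc⟩ := hodd
    obtain rfl : c = 0 := by omega
    rw [hc] at hbound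
    simp only [mul_zero, zero_add, one_mul, Nat.sub_self, Nat.le_zero, mul_eq_zero] at hbound
    omega
  have hj : j = 3 := by
    obtain ⟨c, rfl⟩ := hjodd
    have : q * (2 * c + 1) < q * 5 := by omega
    have := Nat.lt_of_mul_lt_mul_left this
    omega
  subst hj
  have hrel : (stab N x).relIndex W = 3 := le_antisymm (Nat.le_of_dvd (by norm_num) hrj) hr3
  rw [hrel] at hsup
  set Dx := stab N x with hDx
  set H : Subgroup G := Dx ⊔ W with hH
  have hHN : H ≤ N := sup_le inf_le_left D.le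
  have hHc : Nat.card H = Nat.card W * i := by rw [hsup, ← hDj]; ring
  have hHodd : Odd (Nat.card H) := hHc ▸ D.odd_e P hN
  -- an involution of `N` normalises neither `Dx` nor `H`
  have hnoDx : ∀ t ∈ N, orderOf t = 2 → t ∉ normalizer (Dx : Set G) := by
    intro t ht ht2 hn
    have hle := D.le_of_normalized hcomm inf_le_left (D.odd_stab hx) ht ht2 hn
    have h1 := card_mul_index (Dx.subgroupOf W)
    rw [Nat.card_congr (subgroupOfEquivOfLe hle).toEquiv,
      show (Dx.subgroupOf W).index = Dx.relIndex W from rfl, hrel, hDj] at h1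
    have := Nat.eq_of_mul_eq_mul_left (Nat.card_pos (α := W)) (h1.trans (mul_one _).symm)
    omega
  have hnoH : ∀ t ∈ N, orderOf t = 2 → t ∉ normalizer (H : Set G) := by
    intro t ht ht2 hn
    have hle := Nat.le_of_dvd Nat.card_pos
      (card_dvd_of_le (D.le_of_normalized hcomm hHN hHodd ht ht2 hn))
    rw [hHc] at hle
    have := Nat.le_of_mul_le_mul_left (hle.trans (le_of_eq (mul_one _).symm))
      (Nat.card_pos (α := W))
    omega
  -- so their normalisers in `N` are `H`
  have hNN : ∀ X : Subgroup G, H ≤ normalizer (X : Set G) →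
      (∀ t ∈ N, orderOf t = 2 → t ∉ normalizer (X : Set G)) → N ⊓ normalizer (X : Set G) = H := by
    intro X hX hno
    have hodd : Odd (Nat.card (N ⊓ normalizer (X : Set G) : Subgroup G)) := by
      rw [← Nat.not_even_iff_odd]
      intro hev
      obtain ⟨t, ht⟩ := exists_prime_orderOf_dvd_card'
        (G := (N ⊓ normalizer (X : Set G) : Subgroup G)) 2 hev.two_dvd
      rw [← orderOf_coe] at ht
      exact hno t t.2.1 ht t.2.2
    exact (Subgroup.eq_of_le_of_card_ge (le_inf hHN hX) (Nat.le_of_dvd Nat.card_pos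
      (hHc.symm ▸ D.card_dvd_odd P hN inf_le_left hodd))).symm
  have hnD : (Dx.subgroupOf H).Normal := by
    refine normal_of_index_eq_minFac_card ?_
    have h1 := card_mul_index (Dx.subgroupOf H)
    rw [Nat.card_congr (subgroupOfEquivOfLe (le_sup_left : Dx ≤ H)).toEquiv, hsup, mul_comm 3] at h1
    have hidx := Nat.eq_of_mul_eq_mul_left (Nat.card_pos (α := Dx)) h1
    rw [hidx]
    have h3 : 3 ∣ Nat.card H := hsup ▸ dvd_mul_right _ _
    have hp : (Nat.card H).minFac.Prime := Nat.minFac_prime (fun h => by omega)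
    have h2 : (Nat.card H).minFac ≠ 2 := fun h => by
      have := Nat.minFac_dvd (Nat.card H)
      rw [h] at this
      exact Nat.not_even_iff_odd.2 hHodd (even_iff_two_dvd.2 this)
    have := hp.two_le
    have := Nat.minFac_le_of_dvd (le_refl 2 |>.trans (by norm_num)) h3
    omega
  have hHD : H ≤ normalizer (Dx : Set G) := by
    intro h hh
    refine Transfer.mem_normalizer_of_conj_mem fun w hw => ?_
    have := hnD.conj_mem ⟨w, (le_sup_left : Dx ≤ H) hw⟩ hw ⟨h, hh⟩
    exact this
  have hNND := hNN Dx hHD hnoDx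
  have hNNH := hNN H le_normalizer hnoH
  -- the three cosets
  set a : G ⧸ N := ((1 : G) : G ⧸ N) with ha
  have horbstab : MulAction.stabilizer H x = Dx.subgroupOf H := by
    ext h
    rw [MulAction.mem_stabilizer_iff, mem_subgroupOf, hDx, mem_stab]
    exact ⟨fun e => ⟨hHN h.2, e⟩, fun e => e.2⟩
  have hF3 : (MulAction.orbit H x).ncard = 3 := by
    rw [← MulAction.index_stabilizer, horbstab]
    have h1 := card_mul_index (Dx.subgroupOf H)
    rw [Nat.card_congr (subgroupOfEquivOfLe (le_sup_left : Dx ≤ H)).toEquiv, hsup, mul_comm 3] at h1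
    exact Nat.eq_of_mul_eq_mul_left (Nat.card_pos (α := Dx)) h1
  set F : Set (G ⧸ N) := MulAction.orbit H x with hF
  have hFa : ∀ p ∈ F, p ≠ a := by
    rintro _ ⟨h, rfl⟩ e
    apply hx
    have e' : (h : G) • x = a := e
    rw [← inv_smul_smul (h : G) x, e', ha, smul_base_eq_iff]
    exact inv_mem (hHN h.2)
  have hFstab : ∀ p ∈ F, stab N p = Dx := by
    rintro _ ⟨h, rfl⟩
    show stab N ((h : G) • x) = Dx
    ext w
    have hc : w ∈ Dx ↔ (h : G)⁻¹ * w * h ∈ Dx := by
      have := mem_normalizer_iff.1 (inv_mem (hHD h.2)) w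
      simpa using this
    rw [hc, hDx, mem_stab, mem_stab]
    refine and_congr ⟨fun hw => mul_mem (mul_mem (inv_mem (hHN h.2)) hw) (hHN h.2),
      fun hw => by simpa [mul_assoc] using mul_mem (mul_mem (hHN h.2) hw) (inv_mem (hHN h.2))⟩ ?_
    rw [mul_smul, mul_smul, inv_smul_eq_iff]
  have hFfix : ∀ p ∈ F, ∀ d ∈ Dx, d • p = p := fun p hp d hd =>
    (mem_stab.1 ((hFstab p hp).symm ▸ hd)).2
  -- a fixed point of `Dx` outside `a`, `F` is alone
  have hFix : ∀ y : G ⧸ N, y ≠ a → (∀ d ∈ Dx, d • y = y) → y ∈ MulAction.orbit N x → y ∈ F := by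
    rintro _ - hy ⟨h, rfl⟩
    have hy' : ∀ d ∈ Dx, d • (h : G) • x = (h : G) • x := hy
    have hn : (h : G)⁻¹ ∈ normalizer (Dx : Set G) := by
      refine Transfer.mem_normalizer_of_conj_mem fun w hw => mem_stab.2
        ⟨mul_mem (mul_mem (inv_mem h.2) ((mem_stab.1 hw).1)) (inv_mem (inv_mem h.2)), ?_⟩
      rw [inv_inv, mul_smul, mul_smul, hy' w hw, inv_smul_smul]
    have : (h : G)⁻¹ ∈ H := by
      have h2 : (h : G)⁻¹ ∈ N ⊓ normalizer (Dx : Set G) := mem_inf.2 ⟨inv_mem (show (h : G) ∈ N from h.2), hn⟩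
      rwa [hNND] at h2
    exact ⟨⟨(h : G), (Subgroup.inv_mem_iff H).1 this⟩, rfl⟩
  have hOther : ∀ y : G ⧸ N, y ≠ a → y ∉ MulAction.orbit N x → Nat.card (stab N y) = Nat.card H ∧
      (stab N y).relIndex W = 1 := by
    intro y hy hyx
    obtain ⟨jy, hjyo, hory, hDy, hry, -⟩ := D.orbit_data P hN hy
    have h1 := D.ncard_two_orbits_le hx hy hyx
    rw [horb, hory, ← hq] at h1
    have hlt : q * jy < q * 2 := by omega
    have := Nat.lt_of_mul_lt_mul_left hlt
    obtain rfl : jy = 1 := by obtain ⟨c, rfl⟩ := hjyo; omega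
    exact ⟨by rw [hHc, ← hDy, mul_one], Nat.dvd_one.1 hry⟩
  have hOtherUniq : ∀ y z : G ⧸ N, y ≠ a → z ≠ a → y ∉ MulAction.orbit N x →
      z ∉ MulAction.orbit N x → (∀ d ∈ Dx, d • y = y) → (∀ d ∈ Dx, d • z = z) → y = z := by
    intro y z hy hz hyx hzx hyf hzf
    have hst : ∀ w : G ⧸ N, w ≠ a → w ∉ MulAction.orbit N x → (∀ d ∈ Dx, d • w = w) →
        stab N w = H := fun w hw hwx hwf => by
      obtain ⟨hc, hr1⟩ := hOther w hw hwx
      refine (Subgroup.eq_of_le_of_card_ge (sup_le (fun d hd => mem_stab.2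
        ⟨(mem_stab.1 hd).1, hwf d hd⟩) (relIndex_eq_one.1 hr1)) hc.le).symm
    have hzy : z ∈ MulAction.orbit N y := by
      by_contra hzy
      have h1 : (MulAction.orbit N x).ncard + (MulAction.orbit N y).ncard +
          (MulAction.orbit N z).ncard + 1 ≤ n := by
        have hxy : Disjoint (MulAction.orbit N x) (MulAction.orbit N y) := Set.disjoint_left.2
          fun w hw hw' => hyx (by
            rw [MulAction.orbit_eq_iff.2 hw |>.symm, MulAction.orbit_eq_iff.2 hw']
            exact MulAction.mem_orbit_self y)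
        have hd : Disjoint (MulAction.orbit N x ∪ MulAction.orbit N y) (MulAction.orbit N z) :=
          Set.disjoint_left.2 fun w hw hw' => by
            rcases hw with hw | hw
            · apply hzx
              rw [MulAction.orbit_eq_iff.2 hw |>.symm, MulAction.orbit_eq_iff.2 hw']
              exact MulAction.mem_orbit_self z
            · apply hzy
              rw [MulAction.orbit_eq_iff.2 hw |>.symm, MulAction.orbit_eq_iff.2 hw']
              exact MulAction.mem_orbit_self z
        have hna : ∀ w : G ⧸ N, w ≠ a → a ∉ MulAction.orbit N w := by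
          rintro w hw ⟨h, hh⟩
          have hh' : (h : G) • w = a := hh
          apply hw
          rw [← inv_smul_smul (h : G) w, hh', ha, smul_base_eq_iff]
          exact inv_mem h.2
        rw [← Set.ncard_union_eq hxy, ← Set.ncard_union_eq hd, hn, ← Set.ncard_univ,
          ← Set.ncard_insert_of_notMem (by simp [hna x hx, hna y hy, hna z hz] :
            a ∉ MulAction.orbit N x ∪ MulAction.orbit N y ∪ MulAction.orbit N z)]
        exact Set.ncard_le_ncard (Set.subset_univ _)
      obtain ⟨jy, hjyo, hory, -⟩ := D.orbit_data P hN hy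
      obtain ⟨jz, hjzo, horz, -⟩ := D.orbit_data P hN hz
      rw [horb, hory, horz, ← hq] at h1
      have := Nat.mul_le_mul_left q hjyo.pos
      have := Nat.mul_le_mul_left q hjzo.pos
      omega
    obtain ⟨h, rfl⟩ := hzy
    have hzf' : stab N ((h : G) • y) = H := hst _ hz hzx hzf
    have hyf' := hst y hy hyx hyf
    have hn : (h : G) ∈ normalizer (H : Set G) := by
      refine Transfer.mem_normalizer_of_conj_mem fun w hw => ?_
      have hw' := mem_stab.1 (hyf'.symm ▸ hw)
      rw [← hzf', mem_stab]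
      refine ⟨mul_mem (mul_mem h.2 hw'.1) (inv_mem h.2), ?_⟩
      rw [mul_smul, mul_smul, inv_smul_smul, hw'.2]
    have hh : (h : G) ∈ H := by
      have h2 : (h : G) ∈ N ⊓ normalizer (H : Set G) := ⟨h.2, hn⟩
      rwa [hNNH] at h2
    exact ((mem_stab.1 (hyf'.symm ▸ hh)).2).symm
  -- swappers
  have hswap : ∀ p ∈ F, ∃ v : G, orderOf v = 2 ∧ v • a = p ∧ v • p = a ∧
      v ∈ normalizer (Dx : Set G) ∧
      ∀ y : G ⧸ N, (∀ d ∈ Dx, d • y = y) → (∀ d ∈ Dx, d • v • y = v • y) ∧ v • y ≠ y := by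
    intro p hp
    have hpos : 0 < Nat.card {t : G // orderOf t = 2 ∧ t ∈ N} := by
      haveI : Nonempty {t : G // orderOf t = 2 ∧ t ∈ N} := ⟨⟨u, hu2, hPN huP⟩⟩
      exact Nat.card_pos
    rw [← StrongEmb.card_swap D.se a p (hFa p hp).symm] at hpos
    obtain ⟨⟨v, hv2, hva⟩⟩ := (Nat.card_pos_iff.1 hpos).1
    have hvv := StrongEmb.mul_self_of_orderOf hv2
    have hvi := StrongEmb.inv_eq_of_orderOf hv2
    have hvp : v • p = a := by rw [← hva, ← mul_smul, hvv, one_smul]
    have hnorm : v ∈ normalizer (Dx : Set G) := by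
      refine Transfer.mem_normalizer_of_conj_mem fun w hw => ?_
      rw [← hFstab p hp] at hw ⊢
      obtain ⟨hwN, hwp⟩ := mem_stab.1 hw
      rw [mem_stab, hvi, mul_smul, mul_smul, hvp, ← smul_base_eq_iff, ← ha, mul_smul, mul_smul,
        hva, hwp, hvp, smul_base_eq_iff.2 hwN, hva]
      exact ⟨rfl, rfl⟩
    refine ⟨v, hv2, hva, hvp, hnorm, fun y hy => ⟨fun d hd => ?_, fun hvy => ?_⟩⟩
    · have h1 := hy _ ((mem_normalizer_iff.1 hnorm d).1 hd)
      rw [hvi, mul_smul, mul_smul] at h1
      have h2 := congrArg (v • ·) h1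
      simpa [← mul_smul, ← mul_assoc, hvv] using h2
    · -- a fixed point of `v` among them
      induction y using QuotientGroup.induction_on with
      | _ γ =>
        have hya : (γ : G ⧸ N) ≠ a := fun e => hFa p hp (by rw [← hva, ← e, hvy])
        have hvγ : γ⁻¹ * v * γ ∈ N := smul_coset_eq_iff.1 hvy
        set D' : Subgroup G := Dx.map (MulAut.conj γ⁻¹).toMonoidHom with hD'
        have hmem : ∀ w, w ∈ D' ↔ γ * w * γ⁻¹ ∈ Dx := fun w => by
          rw [hD', mem_map_equiv, MulAut.conj_symm_apply, inv_inv]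
        have hD'N : D' ≤ N := fun w hw => by
          have := smul_coset_eq_iff.1 (hy _ ((hmem w).1 hw))
          simpa [mul_assoc] using this
        have hcard : Nat.card D' = Nat.card Dx := card_map_of_injective (MulEquiv.injective _)
        have hD'W : D' ≤ W := by
          refine D.le_of_normalized hcomm hD'N (hcard ▸ D.odd_stab hx) hvγ ?_ ?_
          · rw [show γ⁻¹ * v * γ = γ⁻¹ * v * γ⁻¹⁻¹ by group, StrongEmb.orderOf_conj', hv2]
          · refine Transfer.mem_normalizer_of_conj_mem fun w hw => ?_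
            rw [hmem] at hw ⊢
            have := (mem_normalizer_iff.1 hnorm _).1 hw
            rwa [show γ * (γ⁻¹ * v * γ * w * (γ⁻¹ * v * γ)⁻¹) * γ⁻¹ =
              v * (γ * w * γ⁻¹) * v⁻¹ by group]
        have h1 := card_dvd_of_le hD'W
        rw [hcard] at h1
        have h2 := Nat.le_of_dvd Nat.card_pos h1
        have hi : i = 3 := by
          have h4 : Nat.card W * i ≤ Nat.card W * 3 := by rw [← hDj]; exact Nat.mul_le_mul_right _ h2
          have := Nat.le_of_mul_le_mul_left h4 (Nat.card_pos (α := W))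
          omega
        have hDW : D' = W := Subgroup.eq_of_le_of_card_ge hD'W (by
          rw [hcard]
          have := hDj
          rw [hi] at this
          exact (Nat.eq_of_mul_eq_mul_right (by norm_num) this).ge)
        -- then `W` fixes `γ⁻¹ N`
        set z : G ⧸ N := ((γ⁻¹ : G) : G ⧸ N)
        have hza : z ≠ a := fun e => hya (by
          have e' := QuotientGroup.eq.1 e
          rw [inv_inv, mul_one] at e'
          exact QuotientGroup.eq.2 (by rw [mul_one]; exact inv_mem e'))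
        have hWz : W ≤ stab N z := fun w hw => mem_stab.2 ⟨D.le hw, smul_coset_eq_iff.2 (by
          rw [inv_inv]
          exact (mem_stab.1 ((hmem w).1 (hDW.symm ▸ hw))).1)⟩
        have hzx : z ∉ MulAction.orbit N x := by
          rintro ⟨h, hh⟩
          have hh' : (h : G) • x = z := hh
          have : W ≤ Dx := fun w hw => by
            have h1 := (mem_stab.1 (hWz (D.conj_mem_W h.2 hw))).2
            rw [← hh', ← mul_smul, inv_mul_cancel_right, mul_smul, smul_left_cancel_iff] at h1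
            exact mem_stab.2 ⟨D.le hw, h1⟩
          rw [relIndex_eq_one.2 this] at hrel
          exact absurd hrel (by norm_num)
        have h5 := D.ncard_two_orbits_le hx hza hzx
        obtain ⟨jz, hjzo, horz, -⟩ := D.orbit_data P hN hza
        rw [horb, horz, ← hq, ← hn] at h5
        have := Nat.mul_le_mul_left q hjzo.pos
        have h6 : n ≥ 4 * q + 1 := by omega
        rw [hi] at hbound
        have h7 : (q - 1) * (4 * q + 1) ≤ 10 * q := by
          have h8 : (q - 1) * (3 * (4 * q + 1)) ≤ (q - 1) * (3 * n) :=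
            Nat.mul_le_mul_left _ (Nat.mul_le_mul_left _ h6)
          have h9 := h8.trans hbound
          rw [show (q - 1) * (3 * (4 * q + 1)) = 3 * ((q - 1) * (4 * q + 1)) by ring] at h9
          omega
        obtain ⟨c, hc⟩ : ∃ c, q = c + 4 := ⟨q - 4, by omega⟩
        rw [hc, show c + 4 - 1 = c + 3 by omega] at h7
        nlinarith [h7]
  -- the fixed points of `Dx`
  obtain ⟨p₁, p₂, p₃, h12, h13, h23, hFeq⟩ := Set.ncard_eq_three.1 hF3
  have hp₁ : p₁ ∈ F := by rw [hFeq]; simp
  have hp₂ : p₂ ∈ F := by rw [hFeq]; simp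
  have hp₃ : p₃ ∈ F := by rw [hFeq]; simp
  have hafix : ∀ d ∈ Dx, d • a = a := fun d hd => by
    rw [ha, smul_base_eq_iff]; exact (mem_stab.1 hd).1
  have hcases : ∀ y : G ⧸ N, (∀ d ∈ Dx, d • y = y) →
      y = a ∨ y = p₁ ∨ y = p₂ ∨ y = p₃ ∨ (y ≠ a ∧ y ∉ MulAction.orbit N x) := by
    intro y hy
    by_cases hya : y = a
    · exact Or.inl hya
    by_cases hyx : y ∈ MulAction.orbit N x
    · have := hFix y hya hy hyx
      rw [hFeq] at this
      simp only [Set.mem_insert_iff, Set.mem_singleton_iff] at this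
      rcases this with e | e | e
      · exact Or.inr (Or.inl e)
      · exact Or.inr (Or.inr (Or.inl e))
      · exact Or.inr (Or.inr (Or.inr (Or.inl e)))
    · exact Or.inr (Or.inr (Or.inr (Or.inr ⟨hya, hyx⟩)))
  -- an involution exchanging `a` and one of them exchanges the two others
  have hexch : ∀ b b' b'' : G ⧸ N, b ∈ F → b' ∈ F → b'' ∈ F → b ≠ b' → b ≠ b'' → b' ≠ b'' →
      (∀ y : G ⧸ N, (∀ d ∈ Dx, d • y = y) →
        y = a ∨ y = b ∨ y = b' ∨ y = b'' ∨ (y ≠ a ∧ y ∉ MulAction.orbit N x)) →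
      ∀ v : G, orderOf v = 2 → v • a = b → v • b = a →
      (∀ y : G ⧸ N, (∀ d ∈ Dx, d • y = y) → (∀ d ∈ Dx, d • v • y = v • y) ∧ v • y ≠ y) →
      v • b' = b'' := by
    intro b b' b'' hb hb' hb'' n1 n2 n3 hc v hv2 hva hvb hv
    have hvv := StrongEmb.mul_self_of_orderOf hv2
    have hinvol : ∀ y : G ⧸ N, v • v • y = y := fun y => by rw [← mul_smul, hvv, one_smul]
    have himg : ∀ y z : G ⧸ N, v • y = z → y = v • z := fun y z e => by rw [← e, hinvol]
    obtain ⟨h1, h2⟩ := hv b' (hFfix b' hb')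
    rcases hc _ h1 with e | e | e | e | ⟨e1, e2⟩
    · exact absurd ((himg _ _ e).trans hva) n1.symm
    · exact absurd ((himg _ _ e).trans hvb) (hFa b' hb')
    · exact absurd e h2
    · exact e
    · exfalso
      obtain ⟨h3, h4⟩ := hv b'' (hFfix b'' hb'')
      rcases hc _ h3 with e | e | e | e | ⟨f1, f2⟩
      · exact n2 ((himg _ _ e).trans hva).symm
      · exact hFa b'' hb'' ((himg _ _ e).trans hvb)
      · exact e2 (by
          rw [← himg _ _ e]
          exact (MulAction.orbit_eq_iff.1 (rfl : MulAction.orbit N x = _)) |> fun _ => by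
            obtain ⟨h, rfl⟩ := hb''
            exact ⟨⟨(h : G), hHN h.2⟩, rfl⟩)
      · exact h4 e
      · have := hOtherUniq _ _ e1 f1 e2 f2 h1 h3
        exact n3 (by rw [← hinvol b', ← hinvol b'', this])
  obtain ⟨v, hv2, hva, hvp, hvn, hv⟩ := hswap p₁ hp₁
  obtain ⟨v', hv'2, hv'a, hv'p, hv'n, hv'⟩ := hswap p₂ hp₂
  have hv23 : v • p₂ = p₃ := hexch p₁ p₂ p₃ hp₁ hp₂ hp₃ h12 h13 h23 hcases v hv2 hva hvp hv
  have hv'13 : v' • p₁ = p₃ := hexch p₂ p₁ p₃ hp₂ hp₁ hp₃ h12.symm h23 h13 (fun y hy => by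
    rcases hcases y hy with e | e | e | e | e
    · exact Or.inl e
    · exact Or.inr (Or.inr (Or.inl e))
    · exact Or.inr (Or.inl e)
    · exact Or.inr (Or.inr (Or.inr (Or.inl e)))
    · exact Or.inr (Or.inr (Or.inr (Or.inr e)))) v' hv'2 hv'a hv'p hv'
  have hvv := StrongEmb.mul_self_of_orderOf hv2
  have hv'v' := StrongEmb.mul_self_of_orderOf hv'2
  have hvi := StrongEmb.inv_eq_of_orderOf hv2
  have hv'i := StrongEmb.inv_eq_of_orderOf hv'2
  have hv32 : v • p₃ = p₂ := by rw [← hv23, ← mul_smul, hvv, one_smul]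
  have hv'31 : v' • p₃ = p₁ := by rw [← hv'13, ← mul_smul, hv'v', one_smul]
  set s := v * v' with hs
  have hsa : s • a = p₃ := by rw [hs, mul_smul, hv'a, hv23]
  have hs2a : (s * s) • a = a := by rw [mul_smul, hsa, hs, mul_smul, hv'31, hvp]
  have hs2p : (s * s) • p₁ = p₁ := by
    rw [mul_smul, hs, mul_smul, mul_smul, hv'13, hv32, hv'p, hva]
  have hs2D : s * s ∈ Dx := by
    rw [← hFstab p₁ hp₁, mem_stab, ← smul_base_eq_iff, ← ha]
    exact ⟨hs2a, hs2p⟩
  obtain ⟨k, hk⟩ : Odd (orderOf (s * s)) :=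
    (D.odd_stab hx).of_dvd_nat (Dx.orderOf_dvd_natCard hs2D)
  set r := (s * s) ^ k * s with hr_def
  have hr2 : r * r = 1 := by
    have hc : Commute ((s * s) ^ k) s := ((Commute.refl s).mul_left (Commute.refl s)).pow_left k
    rw [hr_def, hc.symm.mul_mul_mul_comm, ← pow_add, ← pow_succ, show k + k + 1 = orderOf (s * s) by
      omega, pow_orderOf_eq_one]
  have hra : r • a = p₃ := by
    rw [hr_def, mul_smul, hsa]
    exact hFfix p₃ hp₃ _ (pow_mem hs2D k)
  have hr1 : r ≠ 1 := fun e => hFa p₃ hp₃ (by rw [← hra, e, one_smul])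
  have hro : orderOf r = 2 := orderOf_eq_prime (by rw [pow_two, hr2]) hr1
  have hri := StrongEmb.inv_eq_of_orderOf hro
  have hrn : r ∈ normalizer (Dx : Set G) :=
    mul_mem (pow_mem (le_normalizer hs2D) k) (mul_mem hvn hv'n)
  have hvs : v * s * v⁻¹ = s⁻¹ := by
    rw [hs, mul_inv_rev, hv'i, hvi, ← mul_assoc, hvv, one_mul]
  have hvr : Commute v r := by
    refine mul_inv_eq_iff_eq_mul.1 ?_
    have hc : Commute ((s * s) ^ k) s := ((Commute.refl s).mul_left (Commute.refl s)).pow_left k
    calc v * r * v⁻¹ = (v * (s * s) * v⁻¹) ^ k * (v * s * v⁻¹) := by rw [conj_pow, hr_def]; group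
      _ = (s * s)⁻¹ ^ k * s⁻¹ := by
        rw [show v * (s * s) * v⁻¹ = (v * s * v⁻¹) * (v * s * v⁻¹) by group, hvs, mul_inv_rev s s]
      _ = r⁻¹ := by rw [hr_def, hc.eq, mul_inv_rev s ((s * s) ^ k), inv_pow]
      _ = r := hri
  have hrv : r ≠ v := fun e => h13 (by rw [← hva, ← e, hra])
  obtain ⟨c, hc, hcu⟩ := D.fixes_unique (t := v) hv2
  have hrc : r • c = c := hcu _ (by rw [← mul_smul, hvr.eq, mul_smul, hc])
  have hvrc : (v * r) • c = c := by rw [mul_smul, hrc, hc]
  have hvr2 : orderOf (v * r) = 2 := by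
    refine orderOf_eq_prime ?_ fun e => hrv ?_
    · rw [pow_two, hvr.symm.mul_mul_mul_comm, hvv, hr2, one_mul]
    · rw [← inv_eq_of_mul_eq_one_right e, hvi]
  let V : Subgroup G :=
    { carrier := {y | y = 1 ∨ y = v ∨ y = r ∨ y = v * r}
      one_mem' := Or.inl rfl
      mul_mem' := by
        have e1 : r * v = v * r := hvr.eq.symm
        have e2 : v * (v * r) = r := by rw [← mul_assoc, hvv, one_mul]
        have e3 : r * (v * r) = v := by rw [← mul_assoc, e1, mul_assoc, hr2, mul_one]
        have e4 : v * r * v = r := by rw [mul_assoc, e1, e2]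
        have e5 : v * r * r = v := by rw [mul_assoc, hr2, mul_one]
        have e6 : v * r * (v * r) = 1 := by rw [← mul_assoc, e4, hr2]
        rintro y z (rfl | rfl | rfl | rfl) (rfl | rfl | rfl | rfl) <;>
          simp [e1, e2, e3, e4, e5, e6, hvv, hr2]
      inv_mem' := by
        rintro y (rfl | rfl | rfl | rfl)
        · simp
        · simp [hvi]
        · simp [hri]
        · simp [mul_inv_rev, hvi, hri, hvr.eq] }
  have hVinv : ∀ y ∈ V, y * y = 1 := by
    rintro y (rfl | rfl | rfl | rfl)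
    · exact one_mul 1
    · exact hvv
    · exact hr2
    · exact StrongEmb.mul_self_of_orderOf hvr2
  haveI : IsMulCommutative V := ⟨⟨fun y z => Subtype.ext (by
    have h1 := hVinv _ (mul_mem y.2 z.2)
    show (y : G) * z = z * y
    rw [← inv_eq_of_mul_eq_one_right h1, mul_inv_rev,
      inv_eq_of_mul_eq_one_right (hVinv _ y.2), inv_eq_of_mul_eq_one_right (hVinv _ z.2)])⟩⟩
  have hVnc : ¬ IsCyclic V := by
    intro hcyc
    obtain ⟨⟨w, hw⟩, hgenw⟩ := hcyc
    have hle : Nat.card V ≤ 2 := by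
      rw [← orderOf_eq_card_of_forall_mem_zpowers hgenw]
      exact Nat.le_of_dvd two_pos (orderOf_dvd_of_pow_eq_one
        (Subtype.ext (by rw [pow_two]; exact hVinv w hw)))
    have hv1 : v ≠ 1 := fun e => by rw [e, orderOf_one] at hv2; exact absurd hv2 (by decide)
    have h3 : ({1, v, r} : Set G).ncard = 3 :=
      Set.ncard_eq_three.2 ⟨1, v, r, hv1.symm, Ne.symm hr1, hrv.symm, rfl⟩
    have h4 : ({1, v, r} : Set G).ncard ≤ (V : Set G).ncard := by
      refine Set.ncard_le_ncard ?_
      rintro y (rfl | rfl | rfl)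
      · exact Or.inl rfl
      · exact Or.inr (Or.inl rfl)
      · exact Or.inr (Or.inr (Or.inl rfl))
    rw [← Nat.card_coe_set_eq (V : Set G), h3] at h4
    exact absurd (h4.trans hle) (by norm_num)
  have hVn : V ≤ normalizer (Dx : Set G) := by
    rintro y (rfl | rfl | rfl | rfl)
    · exact one_mem _
    · exact hvn
    · exact hrn
    · exact mul_mem hvn hrn
  have hVp : IsPGroup 2 V := fun y => ⟨1, Subtype.ext (by rw [pow_one, coe_pow, pow_two]; exact hVinv y y.2)⟩
  have hcop : (Nat.card V).Coprime (Nat.card Dx) := by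
    obtain ⟨j, hj⟩ := IsPGroup.iff_card.1 hVp
    rw [hj]
    exact ((Nat.coprime_two_left).2 (D.odd_stab hx)).pow_left _
  have hS := Coprime.eq_of_forall_centralizer_le (A := V) (K := Dx)
    (S := Dx ⊓ MulAction.stabilizer G c) hVnc hVn hcop inf_le_left (by
      intro y hy hy1 d hd
      refine ⟨hd.1, ?_⟩
      have hy2 : orderOf y = 2 := orderOf_eq_prime (by rw [pow_two, hVinv y hy]) hy1
      obtain ⟨c', hc', hcu'⟩ := D.fixes_unique (t := y) hy2
      have hyc : y • c = c := by
        rcases hy with rfl | rfl | rfl | rfl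
        · exact absurd rfl hy1
        · exact hc
        · exact hrc
        · exact hvrc
      obtain rfl := hcu' c hyc
      show d • c = c
      refine hcu' _ ?_
      rw [← mul_smul, ← mem_centralizer_singleton_iff.1 hd.2, mul_smul, hyc])
  refine (hv c fun d hd => ?_).2 hc
  rw [← hS] at hd
  exact hd.2

end Data

end Cfsg.Agent.TwoNilCent
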